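/-
Abstract systems of root elements over a set of roots of a Chevalley datum: a grading by a linear
functional which is positive on a set of roots gives a subgroup on which the map to the matrix
group is injective.
-/
import Cfsg.Agent.Chevalley.Torus
import Cfsg.Prelude.Def_Steinberg

set_option autoImplicit false

namespace Cfsg.Agent.H38.CT

open Cfsg.Lie Cfsg.Lie.ChevalleyDatum Cfsg.Agent.Chevalley
open scoped Matrix

variable {D : ChevalleyDatum} (C : Cert D) (F : Type*) [Field F]

/-- value of a linear functional at a root -/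
def lev (lam : ℕ → ℤ) (r : ℕ) : ℤ := ∑ i ∈ Finset.range D.rank, lam i * C.cf r i

/-- value of a linear functional at a coordinate -/
def levI (lam : ℕ → ℤ) (x : D.Idx) : ℤ := ∑ i ∈ Finset.range D.rank, lam i * C.cfI x i

theorem lev_comb (lam : ℕ → ℤ) {u r s : ℕ} {a b : ℤ}
    (h : ∀ i < D.rank, C.cf u i = a * C.cf r i + b * C.cf s i) :
    lev C lam u = a * lev C lam r + b * lev C lam s := by
  simp only [lev, Finset.mul_sum, ← Finset.sum_add_distrib]
  refine Finset.sum_congr rfl fun i hi => ?_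
  rw [h i (Finset.mem_range.1 hi)]
  ring

theorem lev_neg (lam : ℕ → ℤ) {r : ℕ} (hr : r < D.nroots) :
    lev C lam (D.neg r) = -lev C lam r := by
  simp only [lev, ← Finset.sum_neg_distrib]
  refine Finset.sum_congr rfl fun i hi => ?_
  rw [C.cf_neg r hr i (Finset.mem_range.1 hi)]
  ring

theorem lev_simple (lam : ℕ → ℤ) {i : ℕ} (hi : i < D.rank) : lev C lam (D.simple i) = lam i := by
  rw [lev, Finset.sum_eq_single i]
  · rw [C.cf_simple i hi i hi, if_pos rfl, mul_one]
  · intro b hb hne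
    rw [C.cf_simple i hi b (Finset.mem_range.1 hb), if_neg hne, mul_zero]
  · simp [hi]

theorem lev_w (lam : ℕ → ℤ) {i r : ℕ} (hi : i < D.rank) (hr : r < D.nroots) :
    lev C lam (C.w i r) = lev C lam r - D.cartan i r * lam i := by
  have : lev C lam (C.w i r) =
      1 * lev C lam r + (-D.cartan i r) * lev C lam (D.simple i) := by
    refine lev_comb C lam fun j hj => ?_
    rw [C.cf_w i hi r hr j hj, C.cf_simple i hi j hj]
    split <;> ring
  rw [this, lev_simple C lam hi]
  ring

theorem lev_delta {k : ℕ} (hk : k < D.rank) (σ : ℤ) (r : ℕ) :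
    lev C (fun m => if m = k then σ else 0) r = σ * C.cf r k := by
  rw [lev, Finset.sum_eq_single k]
  · rw [if_pos rfl]
  · intro b _ hne
    rw [if_neg hne, zero_mul]
  · simp [hk]

/-- a family of root elements over a set of roots, mapping to the matrix root elements -/
structure PSys (G : Type*) [Group G] where
  Sub : ℕ → Prop
  f : ℕ → F → G
  rho : G →* GL D.Idx F
  sub_lt : ∀ {r}, Sub r → r < D.nroots
  sub_comm : ∀ {r s}, Sub r → Sub s → ∀ c ∈ D.commTerms r s, Sub c.1
  rho_f : ∀ {r}, Sub r → ∀ t, rho (f r t) = C.xU F r t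
  add : ∀ {r}, Sub r → ∀ t u, f r t * f r u = f r (t + u)
  comm : ∀ {r s}, Sub r → Sub s → s ≠ r → s ≠ D.neg r → ∀ t u,
    (f s u)⁻¹ * (f r t)⁻¹ * f s u * f r t = ((D.commWord F r s t u).map fun p => f p.1 p.2).prod

/-- a family of root elements over a set of roots closed under negation -/
structure Sys (G : Type*) [Group G] extends PSys C F G where
  sub_neg : ∀ {r}, Sub r → Sub (D.neg r)

namespace PSys

variable {C F} {G : Type*} [Group G] (S : PSys C F G)

theorem f_zero {r : ℕ} (hr : S.Sub r) : S.f r 0 = 1 := by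
  have h := S.add hr 0 0
  rw [add_zero] at h
  exact mul_eq_left.1 h

theorem f_inv {r : ℕ} (hr : S.Sub r) (t : F) : (S.f r t)⁻¹ = S.f r (-t) :=
  inv_eq_of_mul_eq_one_right (by rw [S.add hr, add_neg_cancel, S.f_zero hr])

/-- the subgroup generated by the root elements of level at least `c` -/
def U (lam : ℕ → ℤ) (c : ℤ) : Subgroup G :=
  Subgroup.closure {g | ∃ s t, S.Sub s ∧ c ≤ lev C lam s ∧ g = S.f s t}

/-- the subgroup generated by the root elements of level zero -/
def L0 (lam : ℕ → ℤ) : Subgroup G :=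
  Subgroup.closure {g | ∃ s t, S.Sub s ∧ lev C lam s = 0 ∧ g = S.f s t}

theorem f_mem_U (lam : ℕ → ℤ) {c : ℤ} {s : ℕ} (hs : S.Sub s) (h : c ≤ lev C lam s) (t : F) :
    S.f s t ∈ S.U lam c :=
  Subgroup.subset_closure ⟨s, t, hs, h, rfl⟩

theorem f_mem_L0 (lam : ℕ → ℤ) {s : ℕ} (hs : S.Sub s) (h : lev C lam s = 0) (t : F) :
    S.f s t ∈ S.L0 lam :=
  Subgroup.subset_closure ⟨s, t, hs, h, rfl⟩

theorem U_anti (lam : ℕ → ℤ) {c d : ℤ} (h : c ≤ d) : S.U lam d ≤ S.U lam c :=
  Subgroup.closure_mono (by rintro g ⟨s, t, hs, hl, hg⟩; exact ⟨s, t, hs, le_trans h hl, hg⟩)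

/-- conjugating a root element by another one -/
theorem conj_gen (lam : ℕ → ℤ) {q s : ℕ} (hq : S.Sub q) (hs : S.Sub s)
    (hq0 : 0 ≤ lev C lam q) (hs0 : 0 < lev C lam s) (a t : F) :
    ∃ z ∈ S.U lam (lev C lam q + lev C lam s),
      (S.f q a)⁻¹ * S.f s t * S.f q a = S.f s t * z := by
  have hne : s ≠ D.neg q := by
    intro e
    rw [e, lev_neg C lam (S.sub_lt hq)] at hs0
    omega
  by_cases hsq : s = q
  · subst hsq
    refine ⟨1, one_mem _, ?_⟩
    rw [S.f_inv hs, S.add hs, S.add hs, mul_one]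
    congr 1
    ring
  refine ⟨((D.commWord F q s a t).map fun p => S.f p.1 p.2).prod, ?_, ?_⟩
  · refine Subgroup.list_prod_mem _ fun g hg => ?_
    simp only [commWord, List.map_map, List.mem_map] at hg
    obtain ⟨c, hc, rfl⟩ := hg
    obtain ⟨⟨-, ha, hb⟩, hcf⟩ := C.commTerms_cf hc
    refine S.f_mem_U lam (S.sub_comm hq hs c hc) ?_ _
    rw [lev_comb C lam hcf]
    have h1 : (1 : ℤ) * lev C lam q ≤ (c.2.2.1 : ℤ) * lev C lam q :=
      Int.mul_le_mul_of_nonneg_right (by omega) hq0
    have h2 : (1 : ℤ) * lev C lam s ≤ (c.2.2.2 : ℤ) * lev C lam s :=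
      Int.mul_le_mul_of_nonneg_right (by omega) hs0.le
    omega
  · rw [← S.comm hq hs hsq hne a t]
    group

theorem conj_mem_gen (lam : ℕ → ℤ) {c : ℤ} (hc : 0 < c) {q : ℕ} (hq : S.Sub q)
    (hq0 : 0 ≤ lev C lam q) (a : F) {g : G} (hg : g ∈ S.U lam c) :
    (S.f q a)⁻¹ * g * S.f q a ∈ S.U lam c := by
  unfold U at hg
  induction hg using Subgroup.closure_induction with
  | mem x hx =>
    obtain ⟨s, t, hs, hl, rfl⟩ := hx
    obtain ⟨z, hz, e⟩ := S.conj_gen lam hq hs hq0 (by omega) a t
    rw [e]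
    exact mul_mem (S.f_mem_U lam hs hl t) (S.U_anti lam (by omega) hz)
  | one => simp
  | mul x y _ _ hx hy =>
    rw [show (S.f q a)⁻¹ * (x * y) * S.f q a =
      ((S.f q a)⁻¹ * x * S.f q a) * ((S.f q a)⁻¹ * y * S.f q a) by group]
    exact mul_mem hx hy
  | inv x _ hx =>
    rw [show (S.f q a)⁻¹ * x⁻¹ * S.f q a = ((S.f q a)⁻¹ * x * S.f q a)⁻¹ by group]
    exact inv_mem hx

/-- root elements of non-negative level normalise every level -/
theorem conj_mem (lam : ℕ → ℤ) {c : ℤ} (hc : 0 < c) {h : G}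
    (hh : h ∈ Subgroup.closure {g | ∃ q a, S.Sub q ∧ 0 ≤ lev C lam q ∧ g = S.f q a}) :
    ∀ {g : G}, g ∈ S.U lam c → h⁻¹ * g * h ∈ S.U lam c ∧ h * g * h⁻¹ ∈ S.U lam c := by
  induction hh using Subgroup.closure_induction with
  | mem x hx =>
    obtain ⟨q, a, hq, h0, rfl⟩ := hx
    intro g hg
    refine ⟨S.conj_mem_gen lam hc hq h0 a hg, ?_⟩
    have := S.conj_mem_gen lam hc hq h0 (-a) hg
    rwa [← S.f_inv hq, inv_inv] at this
  | one => intro g hg; simpa using hg
  | mul x y _ _ hx hy =>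
    intro g hg
    constructor
    · rw [show (x * y)⁻¹ * g * (x * y) = y⁻¹ * (x⁻¹ * g * x) * y by group]
      exact (hy (hx hg).1).1
    · rw [show x * y * g * (x * y)⁻¹ = x * (y * g * y⁻¹) * x⁻¹ by group]
      exact (hx (hy hg).2).2
  | inv x _ hx =>
    intro g hg
    rw [inv_inv]
    exact ⟨(hx hg).2, (hx hg).1⟩

theorem conj_mem_U (lam : ℕ → ℤ) {c : ℤ} (hc : 0 < c) {h g : G} (hh : h ∈ S.U lam 0)
    (hg : g ∈ S.U lam c) : h⁻¹ * g * h ∈ S.U lam c :=
  (S.conj_mem lam hc hh hg).1

theorem conj_mem_L0 (lam : ℕ → ℤ) {c : ℤ} (hc : 0 < c) {h g : G} (hh : h ∈ S.L0 lam)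
    (hg : g ∈ S.U lam c) : h * g * h⁻¹ ∈ S.U lam c := by
  refine (S.conj_mem lam hc ?_ hg).2
  refine Subgroup.closure_mono ?_ hh
  rintro g ⟨s, t, hs, hl, e⟩
  exact ⟨s, t, hs, le_of_eq hl.symm, e⟩

open Classical in
/-- the roots of a given level -/
noncomputable def lst (lam : ℕ → ℤ) (c : ℤ) : List ℕ :=
  (List.range D.nroots).filter fun s => decide (S.Sub s ∧ lev C lam s = c)

theorem mem_lst {lam : ℕ → ℤ} {c : ℤ} {s : ℕ} :
    s ∈ S.lst lam c ↔ S.Sub s ∧ lev C lam s = c := by
  classical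
  simp only [lst, List.mem_filter, List.mem_range, decide_eq_true_eq]
  exact ⟨fun h => h.2, fun h => ⟨S.sub_lt h.1, h⟩⟩

theorem nodup_lst (lam : ℕ → ℤ) (c : ℤ) : (S.lst lam c).Nodup :=
  List.nodup_range.filter _

/-- ordered product -/
def prodF (l : List ℕ) (τ : ℕ → F) : G := (l.map fun s => S.f s (τ s)).prod

theorem prodF_mem {lam : ℕ → ℤ} {c : ℤ} {l : List ℕ}
    (hl : ∀ s ∈ l, S.Sub s ∧ c ≤ lev C lam s) (τ : ℕ → F) : S.prodF l τ ∈ S.U lam c := by
  refine Subgroup.list_prod_mem _ fun g hg => ?_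
  simp only [List.mem_map] at hg
  obtain ⟨s, hs, rfl⟩ := hg
  exact S.f_mem_U lam (hl s hs).1 (hl s hs).2 _

theorem prodF_step {lam : ℕ → ℤ} {c : ℤ} (hc : 0 < c) {s : ℕ} (t : F) (τ : ℕ → F) :
    ∀ l : List ℕ, (∀ x ∈ l, S.Sub x ∧ lev C lam x = c) → l.Nodup → s ∈ l →
      (S.prodF l (Function.update τ s (τ s + t)))⁻¹ * S.f s t * S.prodF l τ ∈ S.U lam (c + 1) := by
  intro l
  induction l with
  | nil => simp
  | cons a l ih =>
    intro hl hnd hs
    rw [List.nodup_cons] at hnd
    have ha := hl a (by simp)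
    simp only [prodF, List.map_cons, List.prod_cons]
    by_cases e : a = s
    · subst e
      have : (l.map fun x => S.f x (Function.update τ a (τ a + t) x)) =
          l.map fun x => S.f x (τ x) :=
        List.map_congr_left fun x hx => by
          rw [Function.update_of_ne (fun e' : x = a => hnd.1 (by rw [← e']; exact hx))]
      rw [this, Function.update_self, mul_inv_rev, ← mul_assoc,
        mul_assoc _ (S.f a t) (S.f a (τ a)), S.add ha.1, add_comm t, mul_assoc _ _⁻¹,
        inv_mul_cancel, mul_one, inv_mul_cancel]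
      exact one_mem _
    · have hs' : s ∈ l := (List.mem_cons.1 hs).resolve_left fun h => e h.symm
      have hsS := hl s hs
      rw [Function.update_of_ne e]
      obtain ⟨z, hz, ez⟩ := S.conj_gen lam ha.1 hsS.1 (by omega) (by omega) (τ a) t
      have hA : S.prodF l τ ∈ S.U lam 0 := by
        exact S.prodF_mem (fun x hx =>
          ⟨(hl x (by simp [hx])).1, by have := (hl x (by simp [hx])).2; omega⟩) τ
      have key : (S.f a (τ a) * (l.map fun x => S.f x (Function.update τ s (τ s + t) x)).prod)⁻¹ *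
          S.f s t * (S.f a (τ a) * (l.map fun x => S.f x (τ x)).prod) =
          ((S.prodF l (Function.update τ s (τ s + t)))⁻¹ * S.f s t * S.prodF l τ) *
            ((S.prodF l τ)⁻¹ * z * S.prodF l τ) := by
        have e2 : (S.f a (τ a))⁻¹ * S.f s t * S.f a (τ a) = S.f s t * z := ez
        simp only [prodF, mul_inv_rev]
        calc _ = ((l.map fun x => S.f x (Function.update τ s (τ s + t) x)).prod)⁻¹ *
              ((S.f a (τ a))⁻¹ * S.f s t * S.f a (τ a)) * (l.map fun x => S.f x (τ x)).prod := by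
                group
          _ = _ := by rw [e2]; group
      rw [key]
      refine mul_mem (ih (fun x hx => hl x (by simp [hx])) hnd.2 hs') ?_
      exact S.conj_mem_U lam (by omega) hA (S.U_anti lam (by omega) hz)

theorem decomp {lam : ℕ → ℤ} {c : ℤ} (hc : 0 < c) {g : G} (hg : g ∈ S.U lam c) :
    ∃ τ, (S.prodF (S.lst lam c) τ)⁻¹ * g ∈ S.U lam (c + 1) := by
  have hstep : ∀ (s : ℕ) (t : F), S.Sub s → c ≤ lev C lam s → ∀ y : G,
      (∃ τ, (S.prodF (S.lst lam c) τ)⁻¹ * y ∈ S.U lam (c + 1)) →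
      ∃ τ, (S.prodF (S.lst lam c) τ)⁻¹ * (S.f s t * y) ∈ S.U lam (c + 1) := by
    rintro s t hs hl y ⟨τ, hy⟩
    set A := S.prodF (S.lst lam c) τ with hA
    rcases eq_or_lt_of_le hl with e | e
    · refine ⟨Function.update τ s (τ s + t), ?_⟩
      have h1 := S.prodF_step (lam := lam) hc t τ (S.lst lam c) (fun x hx => S.mem_lst.1 hx)
        (S.nodup_lst lam c) (S.mem_lst.2 ⟨hs, e.symm⟩)
      have := mul_mem h1 hy
      rw [← hA] at this
      simpa [mul_assoc] using this
    · refine ⟨τ, ?_⟩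
      have hA0 : A ∈ S.U lam 0 := S.prodF_mem
        (fun x hx => ⟨(S.mem_lst.1 hx).1, by have := (S.mem_lst.1 hx).2; omega⟩) τ
      have := mul_mem (S.conj_mem_U lam (by omega) hA0
        (S.f_mem_U lam (c := c + 1) hs (by omega) t)) hy
      simpa [mul_assoc] using this
  unfold U at hg
  induction hg using Subgroup.closure_induction_left with
  | one =>
    refine ⟨fun _ => 0, ?_⟩
    have : S.prodF (S.lst lam c) (fun _ => 0) = 1 := by
      refine List.prod_eq_one fun x hx => ?_
      simp only [List.mem_map] at hx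
      obtain ⟨s, hs, rfl⟩ := hx
      exact S.f_zero (S.mem_lst.1 hs).1
    simp [this]
  | mul_left x hx y _ ih =>
    obtain ⟨s, t, hs, hl, rfl⟩ := hx
    exact hstep s t hs hl y ih
  | inv_mul_cancel x hx y _ ih =>
    obtain ⟨s, t, hs, hl, rfl⟩ := hx
    rw [S.f_inv hs]
    exact hstep s (-t) hs hl y ih

/-! ### degrees in the matrix group -/

end PSys

/-- all non-zero entries raise the functional by at least `c` -/
def Deg (lam : ℕ → ℤ) (c : ℤ) (M : Matrix D.Idx D.Idx F) : Prop :=
  ∀ row col, M row col ≠ 0 → c ≤ levI C lam row - levI C lam col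

variable {C F}

theorem Deg.add {lam : ℕ → ℤ} {c : ℤ} {M N : Matrix D.Idx D.Idx F}
    (hM : Deg C F lam c M) (hN : Deg C F lam c N) : Deg C F lam c (M + N) := by
  intro row col h
  by_cases h1 : M row col = 0
  · exact hN row col (by simpa [Matrix.add_apply, h1] using h)
  · exact hM row col h1

theorem Deg.zero {lam : ℕ → ℤ} {c : ℤ} : Deg C F lam c (0 : Matrix D.Idx D.Idx F) :=
  fun _ _ h => absurd rfl h

theorem Deg.mul {lam : ℕ → ℤ} {a b : ℤ} {M N : Matrix D.Idx D.Idx F}
    (hM : Deg C F lam a M) (hN : Deg C F lam b N) : Deg C F lam (a + b) (M * N) := by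
  intro row col h
  rw [Matrix.mul_apply] at h
  obtain ⟨x, -, hx⟩ := Finset.exists_ne_zero_of_sum_ne_zero h
  have := hM row x (left_ne_zero_of_mul hx)
  have := hN x col (right_ne_zero_of_mul hx)
  omega

theorem Deg.mono {lam : ℕ → ℤ} {a b : ℤ} {M : Matrix D.Idx D.Idx F}
    (hM : Deg C F lam a M) (h : b ≤ a) : Deg C F lam b M :=
  fun row col h' => le_trans h (hM row col h')

omit [Field F] in
theorem levI_homog (lam : ℕ → ℤ) {r : ℕ} (hr : r < D.nroots) {k : ℕ} {row col : D.Idx}
    (h : aMat D r k row col ≠ 0) :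
    levI C lam row = k * lev C lam r + levI C lam col := by
  simp only [levI, lev, Finset.mul_sum, ← Finset.sum_add_distrib]
  refine Finset.sum_congr rfl fun i hi => ?_
  rw [C.aMat_homog hr k row col h i (Finset.mem_range.1 hi)]
  ring

omit [Field F] in
theorem aMat_zero_deg (r : ℕ) (row col : D.Idx) :
    aMat D r 0 row col = if row = col then 1 else 0 := by
  rcases row with a | u <;> rcases col with b | s <;>
    simp [entII, entUI, entIS, entUS, Fin.val_inj]

theorem deg_x {lam : ℕ → ℤ} {r : ℕ} (hr : r < D.nroots) (h0 : 0 ≤ lev C lam r) (t : F) :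
    Deg C F lam (lev C lam r) ((D.x F r t) - 1) := by
  intro row col h
  have hsum : ∃ k ∈ Finset.range 3, aMat D r (k + 1) row col ≠ 0 := by
    by_contra hne
    push Not at hne
    refine h ?_
    rw [C.x_eq hr, Matrix.sub_apply, xR, Matrix.of_apply, Finset.sum_range_succ',
      Finset.sum_eq_zero (fun k hk => by rw [hne k hk]; simp), aMat_zero_deg, Matrix.one_apply]
    split <;> simp
  obtain ⟨k, -, hk⟩ := hsum
  rw [levI_homog lam hr hk]
  have : (1 : ℤ) * lev C lam r ≤ ((k + 1 : ℕ) : ℤ) * lev C lam r :=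
    Int.mul_le_mul_of_nonneg_right (by omega) h0
  omega

theorem mul_sub_one {n : Type*} [Fintype n] [DecidableEq n] (P Q : Matrix n n F) :
    P * Q - 1 = (P - 1) + (Q - 1) + (P - 1) * (Q - 1) := by
  noncomm_ring

theorem x_lead {r s : ℕ} (hr : r < D.nroots) (hs : s < D.nroots) (t : F) (k : Fin D.rank) :
    (D.x F s t - 1) (Sum.inl k) (Sum.inr ⟨D.neg r, C.neg_lt hr⟩) =
      if s = r then (cor D r k : F) * t else 0 := by
  rw [C.x_eq hs]
  by_cases e : s = r
  · subst e
    simp [xR, entIS, Finset.sum_range_succ]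
  · have hne : D.neg r ≠ D.neg s := fun h => e (by rw [← C.neg_neg hs, ← h, C.neg_neg hr])
    simp [xR, entIS, Finset.sum_range_succ, hne, e]

include C in
theorem eq_zero_of_cor {r : ℕ} (hr : r < D.nroots) {t : F}
    (h : ∀ k < D.rank, (cor D r k : F) * t = 0) : t = 0 := by
  have key : ∀ L : List ℤ, (∀ c ∈ L, (c : F) * t = 0) →
      ((L.foldr (fun c g => Int.gcd c g) 0 : ℕ) : F) * t = 0 := by
    intro L hL
    induction L with
    | nil => simp
    | cons c L ih =>
      have ih' := ih fun d hd => hL d (by simp [hd])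
      have hb := congrArg (fun z : ℤ => (z : F) * t)
        (Int.gcd_eq_gcd_ab c (L.foldr (fun c g => Int.gcd c g) 0 : ℕ))
      push_cast at hb
      simp only [List.foldr_cons]
      rw [hb]
      linear_combination (Int.gcdA c _ : F) * hL c (by simp) + (Int.gcdB c _ : F) * ih'
  have := key ((List.range D.rank).map (cor D r)) (by
    intro c hc
    simp only [List.mem_map, List.mem_range] at hc
    obtain ⟨k, hk, rfl⟩ := hc
    exact h k hk)
  simpa [C.cor_gcd r hr] using this

namespace PSys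

variable {G : Type*} [Group G] (S : PSys C F G)

theorem deg_mem {lam : ℕ → ℤ} {c : ℤ} (hc : 0 < c) {g : G} (hg : g ∈ S.U lam c) :
    Deg C F lam c ((S.rho g : Matrix D.Idx D.Idx F) - 1) := by
  have hstep : ∀ s t, S.Sub s → c ≤ lev C lam s → ∀ y : G,
      Deg C F lam c ((S.rho y : Matrix D.Idx D.Idx F) - 1) →
      Deg C F lam c ((S.rho (S.f s t * y) : Matrix D.Idx D.Idx F) - 1) := by
    intro s t hs hl y hy
    rw [map_mul, Units.val_mul, mul_sub_one, S.rho_f hs, C.coe_xU]
    have hx := deg_x (F := F) (S.sub_lt hs) (show 0 ≤ lev C lam s by omega) t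
    exact ((hx.mono hl).add hy).add ((hx.mul hy).mono (by omega))
  unfold U at hg
  induction hg using Subgroup.closure_induction_left with
  | one => simpa using Deg.zero (C := C) (F := F)
  | mul_left x hx y _ ih =>
    obtain ⟨s, t, hs, hl, rfl⟩ := hx
    exact hstep s t hs hl y ih
  | inv_mul_cancel x hx y _ ih =>
    obtain ⟨s, t, hs, hl, rfl⟩ := hx
    rw [S.f_inv hs]
    exact hstep s (-t) hs hl y ih

theorem prodF_lin {lam : ℕ → ℤ} {c : ℤ} (hc : 0 < c) (τ : ℕ → F) : ∀ l : List ℕ,
    (∀ s ∈ l, S.Sub s ∧ lev C lam s = c) →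
    Deg C F lam (c + 1) ((S.rho (S.prodF l τ) : Matrix D.Idx D.Idx F) - 1 -
      (l.map fun s => D.x F s (τ s) - 1).sum) := by
  intro l
  induction l with
  | nil => intro _; simpa [prodF] using Deg.zero (C := C) (F := F)
  | cons a l ih =>
    intro hl
    have ha := hl a (by simp)
    have hm := S.deg_mem (lam := lam) hc (S.prodF_mem (l := l)
      (fun s hs => ⟨(hl s (by simp [hs])).1, le_of_eq (hl s (by simp [hs])).2.symm⟩) τ)
    have e : (S.rho (S.prodF (a :: l) τ) : Matrix D.Idx D.Idx F) - 1 -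
        ((a :: l).map fun s => D.x F s (τ s) - 1).sum =
        ((S.rho (S.prodF l τ) : Matrix D.Idx D.Idx F) - 1 -
          (l.map fun s => D.x F s (τ s) - 1).sum) +
        (D.x F a (τ a) - 1) * ((S.rho (S.prodF l τ) : Matrix D.Idx D.Idx F) - 1) := by
      simp only [prodF, List.map_cons, List.prod_cons, List.sum_cons, map_mul, Units.val_mul,
        S.rho_f ha.1, Cert.coe_xU]
      noncomm_ring
    rw [e]
    refine (ih fun s hs => hl s (by simp [hs])).add ?_
    exact ((deg_x (S.sub_lt ha.1) (by omega) _).mul hm).mono (by omega)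

/-- the map to the matrix group is injective on the elements of positive level -/
theorem inj {lam : ℕ → ℤ} {g : G} (hg : g ∈ S.U lam 1) (h : S.rho g = 1) : g = 1 := by
  obtain ⟨B, hB⟩ : ∃ B : ℕ, ∀ s < D.nroots, lev C lam s ≤ B :=
    ⟨(Finset.range D.nroots).sup fun s => (lev C lam s).toNat, fun s hs => by
      have := Finset.le_sup (f := fun s => (lev C lam s).toNat) (Finset.mem_range.2 hs)
      omega⟩
  suffices ∀ k : ℕ, ∀ c : ℤ, 0 < c → (B : ℤ) + 1 ≤ c + k → ∀ g ∈ S.U lam c, S.rho g = 1 → g = 1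
    from this (B + 1) 1 one_pos (by omega) g hg h
  intro k
  induction k with
  | zero =>
    intro c _ hc g hg _
    have hbot : S.U lam c ≤ ⊥ := by
      rw [U, Subgroup.closure_le]
      rintro x ⟨s, t, hs, hl, rfl⟩
      have := hB s (S.sub_lt hs)
      omega
    exact Subgroup.mem_bot.1 (hbot hg)
  | succ k ih =>
    intro c hc hck g hg hρ
    obtain ⟨τ, hv⟩ := S.decomp hc hg
    have hτ : ∀ r ∈ S.lst lam c, τ r = 0 := by
      intro r hr
      have hr' := S.mem_lst.1 hr
      refine eq_zero_of_cor (C := C) (S.sub_lt hr'.1) fun m hm => ?_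
      set row : D.Idx := Sum.inl ⟨m, hm⟩
      set col : D.Idx := Sum.inr ⟨D.neg r, C.neg_lt (S.sub_lt hr'.1)⟩
      have hlev : levI C lam row - levI C lam col = c := by
        have e1 : levI C lam row = 0 := by simp [row, levI]
        have e2 : levI C lam col = lev C lam (D.neg r) := rfl
        rw [e1, e2, lev_neg C lam (S.sub_lt hr'.1)]
        omega
      have hA := S.prodF_lin hc τ (S.lst lam c) fun s hs => S.mem_lst.1 hs
      have hV := S.deg_mem (lam := lam) (show 0 < c + 1 by omega) hv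
      rw [map_mul, map_inv, hρ, mul_one, ← map_inv] at hV
      set A := S.prodF (S.lst lam c) τ
      have hprod : (S.rho A : Matrix D.Idx D.Idx F) * (S.rho A⁻¹ : Matrix D.Idx D.Idx F) = 1 := by
        rw [← Units.val_mul, ← map_mul, mul_inv_cancel, map_one, Units.val_one]
      have hA1 : Deg C F lam c ((S.rho A : Matrix D.Idx D.Idx F) - 1) :=
        S.deg_mem hc (S.prodF_mem
          (fun s hs => ⟨(S.mem_lst.1 hs).1, le_of_eq (S.mem_lst.1 hs).2.symm⟩) τ)
      have hd : Deg C F lam (c + 1) (((S.lst lam c).map fun s => D.x F s (τ s) - 1).sum) := by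
        intro ro co hne
        by_contra hlt
        have q1 : ((S.rho A : Matrix D.Idx D.Idx F) - 1 -
            ((S.lst lam c).map fun s => D.x F s (τ s) - 1).sum) ro co = 0 :=
          by_contra fun e => hlt (hA ro co e)
        have q2 : ((S.rho A⁻¹ : Matrix D.Idx D.Idx F) - 1) ro co = 0 :=
          by_contra fun e => hlt (hV ro co e)
        have q3 : (((S.rho A : Matrix D.Idx D.Idx F) - 1) *
            ((S.rho A⁻¹ : Matrix D.Idx D.Idx F) - 1)) ro co = 0 :=
          by_contra fun e => hlt (((hA1.mul hV).mono (by omega)) ro co e)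
        have e0 := congrFun (congrFun (mul_sub_one (S.rho A : Matrix D.Idx D.Idx F)
          (S.rho A⁻¹ : Matrix D.Idx D.Idx F)) ro) co
        rw [hprod, sub_self, Matrix.zero_apply, Matrix.add_apply, Matrix.add_apply, q2, q3,
          add_zero, add_zero] at e0
        rw [Matrix.sub_apply, ← e0, zero_sub, neg_eq_zero] at q1
        exact hne q1
      have hz : (((S.lst lam c).map fun s => D.x F s (τ s) - 1).sum) row col = 0 :=
        by_contra fun e => by
          have := hd row col e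
          omega
      have : ∀ l : List ℕ, (∀ s ∈ l, s < D.nroots) → l.Nodup →
          ((l.map fun s => D.x F s (τ s) - 1).sum) row col =
            if r ∈ l then (cor D r m : F) * τ r else 0 := by
        intro l
        induction l with
        | nil => intro _ _; simp
        | cons a l ihl =>
          intro hlt hnd
          rw [List.nodup_cons] at hnd
          rw [List.map_cons, List.sum_cons, Matrix.add_apply,
            ihl (fun s hs => hlt s (by simp [hs])) hnd.2,
            x_lead (C := C) (S.sub_lt hr'.1) (hlt a (by simp))]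
          by_cases e : a = r
          · subst e
            simp [hnd.1]
          · simp [e, Ne.symm e]
      rw [this _ (fun s hs => S.sub_lt (S.mem_lst.1 hs).1) (S.nodup_lst lam c), if_pos hr] at hz
      exact hz
    have hA1 : S.prodF (S.lst lam c) τ = 1 := by
      refine List.prod_eq_one fun x hx => ?_
      simp only [List.mem_map] at hx
      obtain ⟨s, hs, rfl⟩ := hx
      rw [hτ s hs, S.f_zero (S.mem_lst.1 hs).1]
    rw [hA1, inv_one, one_mul] at hv
    exact ih (c + 1) (by omega) (by omega) g hv hρ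

theorem eq_of_rho {lam : ℕ → ℤ} {g h : G} (hg : g ∈ S.U lam 1) (hh : h ∈ S.U lam 1)
    (e : S.rho g = S.rho h) : g = h := by
  refine mul_inv_eq_one.1 (S.inj (mul_mem hg (inv_mem hh)) ?_)
  rw [map_mul, map_inv, e, mul_inv_cancel]

end PSys

namespace Sys

variable {G : Type*} [Group G] (S : Sys C F G)

/-- `n_r(t)` -/
def N (r : ℕ) (t : F) : G := S.f r t * S.f (D.neg r) (-t⁻¹) * S.f r t

theorem rho_N {r : ℕ} (hr : S.Sub r) (t : F) : S.rho (S.N r t) = C.nU F r t := by
  rw [N, map_mul, map_mul, S.rho_f hr, S.rho_f (S.sub_neg hr), C.nU_eq]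

theorem N_mem_L0 {lam : ℕ → ℤ} {r : ℕ} (hr : S.Sub r) (h : lev C lam r = 0) (t : F) :
    S.N r t ∈ S.L0 lam := by
  have h' : lev C lam (D.neg r) = 0 := by rw [lev_neg C lam (S.sub_lt hr), h, neg_zero]
  exact mul_mem (mul_mem (S.f_mem_L0 lam hr h t) (S.f_mem_L0 lam (S.sub_neg hr) h' _))
    (S.f_mem_L0 lam hr h t)

/-- identifying a conjugate of a root element by its image -/
theorem conj_eq {lam : ℕ → ℤ} {h : G} {r r' : ℕ} (hh : h ∈ S.L0 lam) (hr : S.Sub r)
    (hr' : S.Sub r') (l : 0 < lev C lam r) (l' : 0 < lev C lam r') {t t' : F}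
    (e : S.rho h * C.xU F r t * (S.rho h)⁻¹ = C.xU F r' t') :
    h * S.f r t * h⁻¹ = S.f r' t' := by
  refine S.eq_of_rho (lam := lam) (S.conj_mem_L0 lam one_pos hh (S.f_mem_U lam hr (by omega) t))
    (S.f_mem_U lam hr' (by omega) t') ?_
  rw [map_mul, map_mul, map_inv, S.rho_f hr, S.rho_f hr', e]

end Sys

end Cfsg.Agent.H38.CT
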