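/-
Conjugation of root elements by the fundamental monomial elements in an abstract system.
-/
import Cfsg.Agent.H38.CT.Unip

set_option autoImplicit false

namespace Cfsg.Agent.H38.CT

open Cfsg.Lie Cfsg.Lie.ChevalleyDatum Cfsg.Agent.Chevalley

variable {D : ChevalleyDatum} {C : Cert D} {F : Type*} [Field F]

/-- positivity of a root -/
def Pos (r : ℕ) : Prop := D.nroots / 2 ≤ r

theorem pos_neg (C : Cert D) {r : ℕ} (hr : r < D.nroots) : Pos (D := D) (D.neg r) ↔ ¬ Pos (D := D) r := by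
  have := C.two_half
  simp only [Pos, C.neg_eq r hr]
  omega

variable (C) in
theorem w_simple {i : ℕ} (hi : i < D.rank) : C.w i (D.simple i) = D.neg (D.simple i) := by
  have hp := (C.simple_lt i hi).1
  refine C.eq_of_cf (C.w_lt i hi _ hp).1 (C.neg_lt hp) fun j hj => ?_
  rw [C.cf_w i hi _ hp j hj, C.cf_neg _ hp j hj, C.cf_simple i hi j hj, C.cartan_self i hi]
  split <;> norm_num

variable (C) in
/-- a root which is not `±p_i` has a non-zero coefficient outside `i` -/
theorem exists_other {i r : ℕ} (hi : i < D.rank) (hr : r < D.nroots) (h1 : r ≠ D.simple i)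
    (h2 : r ≠ D.neg (D.simple i)) : ∃ k < D.rank, k ≠ i ∧ C.cf r k ≠ 0 := by
  have hp : ∀ r < D.nroots, Pos (D := D) r → r ≠ D.simple i →
      ∃ k < D.rank, k ≠ i ∧ C.cf r k ≠ 0 := by
    intro r hr hpos hne
    by_contra h
    push Not at h
    have hcar : D.cartan i r = 2 * C.cf r i := by
      rw [C.cartan_lin i hi r hr, list_sum_range_map, Finset.sum_eq_single i]
      · rw [C.cartan_self i hi]; ring
      · intro b hb hne
        rw [h b (Finset.mem_range.1 hb) hne, zero_mul]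
      · simp [hi]
    have hw := C.cf_w i hi r hr i hi
    rw [if_pos rfl, hcar] at hw
    have h1 := C.cf_nonneg _ (C.w_lt i hi r hr).1 (C.w_pos i hi r hr hpos hne) i hi
    have h2 := C.cf_nonneg r hr hpos i hi
    have h0 : ∀ j < D.rank, C.cf r j = 0 := fun j hj => by
      by_cases e : j = i
      · subst e; omega
      · exact h j hj e
    refine (C.code_pos r hr).2 ?_
    have := C.code_lin (u := r) (a := 0) (b := 0) hr hr hr
      (fun j hj => by rw [h0 j hj]; ring)
    simpa using this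
  by_cases hpos : Pos (D := D) r
  · exact hp r hr hpos h1
  · obtain ⟨k, hk, hki, hne⟩ := hp _ (C.neg_lt hr) ((pos_neg C hr).2 hpos)
      (fun e => h2 (by rw [← e, C.neg_neg hr]))
    rw [C.cf_neg r hr k hk] at hne
    exact ⟨k, hk, hki, fun e => hne (by rw [e, neg_zero])⟩

namespace Sys

variable {G : Type*} [Group G] (S : Sys C F G)

/-- the fundamental monomial element -/
def n (i : ℕ) : G := S.N (D.simple i) 1

theorem rho_n {i : ℕ} (hS : S.Sub (D.simple i)) : S.rho (S.n i) = C.nS F i := by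
  rw [n, S.rho_N hS]; rfl

/-- `n_i x_r(t) n_i⁻¹ = x_{w r}(± t)` for `r ≠ ± p_i` -/
theorem simple_conj {i r : ℕ} (hi : i < D.rank) (hSi : S.Sub (D.simple i)) (hr : S.Sub r)
    (hw : S.Sub (C.w i r)) (h1 : r ≠ D.simple i) (h2 : r ≠ D.neg (D.simple i)) (t : F) :
    S.n i * S.f r t * (S.n i)⁻¹ = S.f (C.w i r) ((C.sg i r : F) * t) := by
  obtain ⟨k, hk, hki, hne⟩ := exists_other C hi (S.sub_lt hr) h1 h2
  obtain ⟨σ, hσ⟩ : ∃ σ : ℤ, 0 < σ * C.cf r k := by
    rcases lt_or_gt_of_ne hne with h | h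
    · exact ⟨-1, by omega⟩
    · exact ⟨1, by omega⟩
  have h0 : lev C (fun m => if m = k then σ else 0) (D.simple i) = 0 := by
    rw [lev_simple C _ hi, if_neg (Ne.symm hki)]
  refine S.conj_eq (h := S.n i) (lam := fun m => if m = k then σ else 0) (S.N_mem_L0 hSi h0 1) hr hw
    ?_ ?_ ?_
  · rwa [lev_delta C hk]
  · rw [lev_delta C hk, C.cf_w i hi r (S.sub_lt hr) k hk, if_neg hki, sub_zero]
    exact hσ
  · rw [S.rho_n hSi]
    exact C.nS_conj_xU F hi (S.sub_lt hr) t

/-- conjugation of the `N`-elements -/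
theorem simple_conj_N {i q : ℕ} (hi : i < D.rank) (hSi : S.Sub (D.simple i)) (hq : S.Sub q)
    (hw : S.Sub (C.w i q)) (h1 : q ≠ D.simple i) (h2 : q ≠ D.neg (D.simple i)) (t : F) :
    S.n i * S.N q t * (S.n i)⁻¹ = S.N (C.w i q) ((C.sg i q : F) * t) := by
  have hq' := S.sub_lt hq
  have e := C.w_neg hi hq'
  have a := S.simple_conj hi hSi hq hw h1 h2 t
  have b := S.simple_conj hi hSi (S.sub_neg hq) (by rw [e]; exact S.sub_neg hw)
    (fun h => h2 (by rw [← h, C.neg_neg hq'])) (fun h => h1 (by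
      have := congrArg D.neg h
      rwa [C.neg_neg hq', C.neg_neg (C.simple_lt i hi).1] at this)) (-t⁻¹)
  have es : (C.sg i (D.neg q) : F) * -t⁻¹ = -((C.sg i q : F) * t)⁻¹ := by
    rw [C.sg_neg hi hq']
    rcases C.sg_pm i q with h | h <;> simp [h, inv_neg]
  rw [e, es] at b
  calc S.n i * S.N q t * (S.n i)⁻¹
      = (S.n i * S.f q t * (S.n i)⁻¹) * (S.n i * S.f (D.neg q) (-t⁻¹) * (S.n i)⁻¹) *
          (S.n i * S.f q t * (S.n i)⁻¹) := by rw [N]; group
    _ = _ := by rw [a, b]; rfl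

/-- `n_a x_{±p_a}(t) n_a⁻¹ = x_{∓p_a}(-t)`, from an adjacent fundamental root `p_b` -/
theorem simple_conj_self {a b r : ℕ} (ha : a < D.rank) (hb : b < D.rank) (hab : a ≠ b)
    (hA : D.cartan a (D.simple b) ≠ 0) (hB : D.cartan b (D.simple a) ≠ 0)
    (hSa : S.Sub (D.simple a)) (hSb : S.Sub (D.simple b))
    (hcl : ∀ r, S.Sub r → S.Sub (C.w a r) ∧ S.Sub (C.w b r))
    (hr : r = D.simple a ∨ r = D.neg (D.simple a)) (t : F) :
    S.n a * S.f r t * (S.n a)⁻¹ = S.f (C.w a r) ((C.sg a r : F) * t) := by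
  have hpa := (C.simple_lt a ha).1
  have hpb := (C.simple_lt b hb).1
  obtain ⟨hSr, σ, hσ, hcf⟩ : S.Sub r ∧ ∃ σ : ℤ, (σ = 1 ∨ σ = -1) ∧
      ∀ j < D.rank, C.cf r j = σ * (if j = a then 1 else 0) := by
    rcases hr with rfl | rfl
    · exact ⟨hSa, 1, Or.inl rfl, fun j hj => by rw [C.cf_simple a ha j hj, one_mul]⟩
    · exact ⟨S.sub_neg hSa, -1, Or.inr rfl, fun j hj => by
        rw [C.cf_neg _ hpa j hj, C.cf_simple a ha j hj]; ring⟩
  have hr' := S.sub_lt hSr
  have hcar : ∀ i < D.rank, D.cartan i r = σ * D.cartan i (D.simple a) := by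
    intro i hi
    rw [C.cartan_lin i hi r hr', list_sum_range_map, Finset.sum_eq_single a]
    · rw [hcf a ha, if_pos rfl]; ring
    · intro j hj hne
      rw [hcf j (Finset.mem_range.1 hj), if_neg hne, mul_zero, zero_mul]
    · simp [ha]
  set q := C.w b r with hqdef
  have hSq : S.Sub q := (hcl r hSr).2
  have hq' := S.sub_lt hSq
  have hq0 : C.cf q b ≠ 0 ∧ C.cf q a = σ := by
    rw [hqdef, C.cf_w b hb r hr' b hb, C.cf_w b hb r hr' a ha, if_pos rfl, if_neg hab, hcar b hb,
      hcf b hb, hcf a ha, if_neg (Ne.symm hab), if_pos rfl]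
    refine ⟨?_, by ring⟩
    intro e
    rcases hσ with rfl | rfl <;> simp [hB] at e
  have hq1 : q ≠ D.simple a ∧ q ≠ D.neg (D.simple a) := by
    refine ⟨fun e => hq0.1 ?_, fun e => hq0.1 ?_⟩
    · rw [e, C.cf_simple a ha b hb, if_neg (Ne.symm hab)]
    · rw [e, C.cf_neg _ hpa b hb, C.cf_simple a ha b hb, if_neg (Ne.symm hab), neg_zero]
  have hq2 : q ≠ D.simple b ∧ q ≠ D.neg (D.simple b) := by
    have hσ0 : σ ≠ 0 := by omega
    refine ⟨fun e => hσ0 ?_, fun e => hσ0 ?_⟩
    · rw [← hq0.2, e, C.cf_simple b hb a ha, if_neg hab]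
    · rw [← hq0.2, e, C.cf_neg _ hpb a ha, C.cf_simple b hb a ha, if_neg hab, neg_zero]
  have hwq : C.w b q = r := (C.w_lt b hb r hr').2
  -- write the element as a conjugate and conjugate by `n_a`
  set t₀ : F := (C.sg b q : F) * t
  have e1 : S.n b * S.f q t₀ * (S.n b)⁻¹ = S.f r t := by
    rw [S.simple_conj hb hSb hSq (by rw [hwq]; exact hSr) hq2.1 hq2.2, hwq]
    congr 1
    rw [← mul_assoc, ← Int.cast_mul, C.sg_sq, Int.cast_one, one_mul]
  have e2 := S.simple_conj ha hSa hSq (hcl q hSq).1 hq1.1 hq1.2 t₀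
  have hne : D.simple b ≠ D.simple a ∧ D.simple b ≠ D.neg (D.simple a) := by
    constructor <;> intro e
    · have := C.cf_simple b hb b hb
      rw [e, C.cf_simple a ha b hb, if_neg (Ne.symm hab), if_pos rfl] at this
      omega
    · have := C.cf_simple b hb b hb
      rw [e, C.cf_neg _ hpa b hb, C.cf_simple a ha b hb, if_neg (Ne.symm hab), if_pos rfl] at this
      omega
  have e3 : S.n a * S.n b * (S.n a)⁻¹ = S.N (C.w a (D.simple b)) ((C.sg a (D.simple b) : F) * 1) :=
    S.simple_conj_N ha hSa hSb (hcl _ hSb).1 hne.1 hne.2 1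
  set A := D.cartan a (D.simple b) with hAdef
  set lam : ℕ → ℤ := fun m => if m = a then -σ else if m = b then -σ * A else 0 with hlam
  have la : lam a = -σ := if_pos rfl
  have lb : lam b = -σ * A := by simp [hlam, Ne.symm hab]
  have hM : S.n a * S.n b * (S.n a)⁻¹ ∈ S.L0 lam := by
    rw [e3]
    refine S.N_mem_L0 (hcl _ hSb).1 ?_ _
    rw [lev_w C lam ha hpb, lev_simple C lam hb, ← hAdef, la, lb]
    ring
  have hlr : lev C lam r = -1 := by
    rw [show lev C lam r = σ * lev C lam (D.simple a) + 0 * lev C lam (D.simple a) from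
      lev_comb C lam (fun j hj => by rw [hcf j hj, C.cf_simple a ha j hj]; ring),
      lev_simple C lam ha, la]
    rcases hσ with rfl | rfl <;> norm_num
  have hσσ : σ * σ = 1 := by rcases hσ with rfl | rfl <;> norm_num
  have hlq : lev C lam (C.w a q) = 1 := by
    rw [lev_w C lam ha hq', hqdef, C.cartan_w hb ha hr', lev_w C lam hb hr', hlr, hcar a ha,
      hcar b hb, C.cartan_self a ha, la, lb, ← hAdef]
    linear_combination (2 : ℤ) * hσσ
  calc S.n a * S.f r t * (S.n a)⁻¹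
      = (S.n a * S.n b * (S.n a)⁻¹) * (S.n a * S.f q t₀ * (S.n a)⁻¹) *
          (S.n a * S.n b * (S.n a)⁻¹)⁻¹ := by rw [← e1]; group
    _ = _ := by
      rw [e2]
      refine S.conj_eq hM (hcl q hSq).1 (hcl r hSr).1 (by omega) ?_ ?_
      · rw [lev_w C lam ha hr', hlr, hcar a ha, C.cartan_self a ha, la]
        rcases hσ with rfl | rfl <;> norm_num
      · have := congrArg S.rho e2
        rw [map_mul, map_mul, map_inv, S.rho_f (hcl q hSq).1] at this
        rw [← this, ← C.nS_conj_xU F ha hr', ← S.rho_n hSa, ← S.rho_f hSr t, ← e1]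
        simp only [map_mul, map_inv]
        group

end Sys

end Cfsg.Agent.H38.CT
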