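/-
The group of the Curtis–Tits relators: rank-two systems inside it, the map to the matrix group,
and the braid relations of the fundamental monomial elements.
-/
import Cfsg.Agent.H38.CT.Conj
import Cfsg.Prelude.Def_CurtisTits

set_option autoImplicit false

namespace Cfsg.Agent.H38.CT

open Cfsg.Lie Cfsg.Lie.ChevalleyDatum Cfsg.Agent.Chevalley

variable {D : ChevalleyDatum}

/-- the root `r` lies in the subsystem spanned by `p_i` and `p_j` -/
def Two (C : Cert D) (i j r : ℕ) : Prop :=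
  r < D.nroots ∧ i < D.rank ∧ j < D.rank ∧ ∀ k < D.rank, k ≠ i → k ≠ j → C.cf r k = 0

/-- the root `r` lies in some rank-two subsystem of fundamental roots -/
def Small (C : Cert D) (r : ℕ) : Prop := ∃ i j, Two C i j r

/-- image of a list of reflections -/
def actW (w : ℕ → ℕ → ℕ) (L : List ℕ) (r : ℕ) : ℕ := L.foldr w r

/-- the finite facts about a datum which are used -/
structure Chk (C : Cert D) : Prop where
  cor_cf : ∀ r < D.nroots, ∀ k < D.rank, (cor D r k = 0 ↔ C.cf r k = 0)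
  adj : ∀ a < D.rank, ∃ b < D.rank, a ≠ b ∧ D.cartan a (D.simple b) ≠ 0 ∧
    D.cartan b (D.simple a) ≠ 0
  pair : ∀ i < D.rank, ∀ j < D.rank, i ≠ j →
    (D.cartan i (D.simple j) = 0 ∧ D.cartan j (D.simple i) = 0 ∧ C.sg i (D.simple j) = 1) ∨
    (D.cartan i (D.simple j) = -1 ∧ D.cartan j (D.simple i) = -1 ∧
      C.sg j (C.w i (D.simple j)) * C.sg i (D.simple j) = 1) ∨
    (((D.cartan i (D.simple j) = -1 ∧ D.cartan j (D.simple i) = -2) ∨
        (D.cartan i (D.simple j) = -2 ∧ D.cartan j (D.simple i) = -1)) ∧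
      C.sg i (C.w j (C.w i (D.simple j))) * (C.sg j (C.w i (D.simple j)) * C.sg i (D.simple j)) = 1)
  trans : ∀ r < D.nroots, (∀ i < D.rank, ¬ r < C.w i r) → ∀ s < D.nroots, s ≠ r → s ≠ D.neg r →
    (∀ i < D.rank, C.w i r = r → ¬ s < C.w i s) →
      ∃ L : List ℕ, (∀ i ∈ L, i < D.rank) ∧
        ∃ i j, Two C i j (actW C.w L r) ∧ Two C i j (actW C.w L s)

section Two

variable (C : Cert D)

theorem two_symm {i j r : ℕ} (h : Two C i j r) : Two C j i r :=
  ⟨h.1, h.2.2.1, h.2.1, fun k hk a b => h.2.2.2 k hk b a⟩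

theorem two_neg {i j r : ℕ} (h : Two C i j r) : Two C i j (D.neg r) :=
  ⟨C.neg_lt h.1, h.2.1, h.2.2.1, fun k hk a b => by
    rw [C.cf_neg r h.1 k hk, h.2.2.2 k hk a b, neg_zero]⟩

theorem two_comm {i j r s : ℕ} (hr : Two C i j r) (hs : Two C i j s) :
    ∀ c ∈ D.commTerms r s, Two C i j c.1 := by
  intro c hc
  obtain ⟨⟨hlt, -, -⟩, hcf⟩ := C.commTerms_cf hc
  refine ⟨hlt, hr.2.1, hr.2.2.1, fun k hk a b => ?_⟩
  rw [hcf k hk, hr.2.2.2 k hk a b, hs.2.2.2 k hk a b]
  ring

theorem two_simple {i j : ℕ} (hi : i < D.rank) (hj : j < D.rank) : Two C i j (D.simple i) :=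
  ⟨(C.simple_lt i hi).1, hi, hj, fun k hk a _ => by rw [C.cf_simple i hi k hk, if_neg a]⟩

theorem two_simple' {i j : ℕ} (hi : i < D.rank) (hj : j < D.rank) : Two C i j (D.simple j) :=
  two_symm C (two_simple C hj hi)

theorem two_w {i j r : ℕ} (h : Two C i j r) : Two C i j (C.w i r) ∧ Two C i j (C.w j r) := by
  refine ⟨⟨(C.w_lt i h.2.1 r h.1).1, h.2.1, h.2.2.1, fun k hk a b => ?_⟩,
    ⟨(C.w_lt j h.2.2.1 r h.1).1, h.2.1, h.2.2.1, fun k hk a b => ?_⟩⟩
  · rw [C.cf_w i h.2.1 r h.1 k hk, if_neg a, h.2.2.2 k hk a b, sub_zero]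
  · rw [C.cf_w j h.2.2.1 r h.1 k hk, if_neg b, h.2.2.2 k hk a b, sub_zero]

theorem two_iff (hk : Chk C) {i j r : ℕ} : D.InRankTwoSub i j r ↔ Two C i j r := by
  constructor
  · rintro ⟨hr, hi, hj, h⟩
    exact ⟨hr, hi, hj, fun k hk' a b => (hk.cor_cf r hr k hk').1 (h k hk' a b)⟩
  · rintro ⟨hr, hi, hj, h⟩
    exact ⟨hr, hi, hj, fun k hk' a b => (hk.cor_cf r hr k hk').2 (h k hk' a b)⟩

end Two

/-! ### evaluation of the relators -/

theorem map_stWord {K G : Type*} [Group G] (φ : FreeGroup (Fin D.nroots × K) →* G)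
    (g : ℕ → K → G) (hg : ∀ r t, φ (D.stX r t) = g r t) (w : List (ℕ × K)) :
    φ (D.stWord w) = (w.map fun p => g p.1 p.2).prod := by
  simp only [stWord, map_list_prod, List.map_map]
  congr 1
  exact List.map_congr_left fun p _ => hg p.1 p.2

variable (K : Type*) [Field K]

/-- a family of elements satisfies the torus relation at `r` -/
def TorMul {G : Type*} [Group G] (g : ℕ → K → G) (r : ℕ) : Prop :=
  ∀ t u : K, t ≠ 0 → u ≠ 0 →
    ((D.hWord r t).map fun p => g p.1 p.2).prod * ((D.hWord r u).map fun p => g p.1 p.2).prod =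
      ((D.hWord r (t * u)).map fun p => g p.1 p.2).prod

theorem gl_comm (C : Cert D) {r s : ℕ} (hr : r < D.nroots) (hs : s < D.nroots) (h1 : s ≠ r)
    (h2 : s ≠ D.neg r) (t u : K) :
    (C.xU K s u)⁻¹ * (C.xU K r t)⁻¹ * C.xU K s u * C.xU K r t =
      ((D.commWord K r s t u).map fun p => C.xU K p.1 p.2).prod := by
  have := C.xU_comm K hr hs h1 h2 t u
  rw [mul_assoc, this]
  show _ = C.wU K _
  group

theorem gl_hMul (C : Cert D) {r : ℕ} (hr : r < D.nroots) : TorMul (D := D) K (C.xU K) r := by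
  intro t u ht hu
  have h := C.hU_mul K hr (Units.mk0 t ht) (Units.mk0 u hu)
  exact h.symm

/-! ### the group -/

/-- the generators in the Curtis–Tits group -/
def X (r : ℕ) (t : K) : D.CurtisTitsGroup K :=
  PresentedGroup.mk (D.curtisTitsRels K) (D.stX r t)

variable {K}

theorem X_rel_eq {g : FreeGroup (Fin D.nroots × K)} (h : g ∈ D.curtisTitsRels K) :
    PresentedGroup.mk (D.curtisTitsRels K) g = 1 :=
  PresentedGroup.one_of_mem h

theorem X_large (C : Cert D) (hk : Chk C) {r : ℕ} (h : ¬ Small C r) (t : K) :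
    X (D := D) K r t = 1 := by
  by_cases hr : r < D.nroots
  · exact X_rel_eq (Or.inl (Or.inl (Or.inl
      ⟨r, t, hr, fun i j hij => h ⟨i, j, (two_iff C hk).1 hij⟩, rfl⟩)))
  · rw [X, stX, dif_neg hr, map_one]

theorem X_add (C : Cert D) (hk : Chk C) {i j r : ℕ} (h : Two C i j r) (t u : K) :
    X (D := D) K r t * X K r u = X K r (t + u) := by
  have := X_rel_eq (D := D) (K := K)
    (Or.inl (Or.inl (Or.inr ⟨i, j, r, t, u, (two_iff C hk).2 h, rfl⟩)))
  rwa [map_mul, map_mul, map_inv, mul_inv_eq_one] at this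

theorem X_comm (C : Cert D) (hk : Chk C) {i j r s : ℕ} (hr : Two C i j r) (hs : Two C i j s)
    (h1 : s ≠ r) (h2 : s ≠ D.neg r) (t u : K) :
    (X (D := D) K s u)⁻¹ * (X K r t)⁻¹ * X K s u * X K r t =
      ((D.commWord K r s t u).map fun p => X K p.1 p.2).prod := by
  have := X_rel_eq (D := D) (K := K) (Or.inl (Or.inr
    ⟨i, j, r, s, t, u, (two_iff C hk).2 hr, (two_iff C hk).2 hs, h1, h2, rfl⟩))
  rwa [map_mul, map_inv, map_stWord _ (X K) (fun _ _ => rfl), map_mul, map_mul, map_mul, map_inv,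
    map_inv, mul_inv_eq_one] at this

theorem X_hMul (C : Cert D) (hk : Chk C) {r : ℕ} (h : Small C r) :
    TorMul (D := D) K (X (D := D) K) r := by
  obtain ⟨i, j, h⟩ := h
  intro t u ht hu
  have := X_rel_eq (D := D) (K := K)
    (Or.inr ⟨i, j, r, t, u, (two_iff C hk).2 h, ht, hu, rfl⟩)
  rwa [map_mul, map_mul, map_inv, stH, stH, stH, map_stWord _ (X K) (fun _ _ => rfl),
    map_stWord _ (X K) (fun _ _ => rfl), map_stWord _ (X K) (fun _ _ => rfl),
    mul_inv_eq_one] at this

variable (K) in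
open Classical in
/-- the images of the generators in the matrix group -/
noncomputable def glGen (C : Cert D) : Fin D.nroots × K → GL D.Idx K := fun p =>
  if Small C p.1 then C.xU K p.1 p.2 else 1

theorem glGen_stX (C : Cert D) (r : ℕ) (t : K) (h : Small C r) :
    FreeGroup.lift (glGen K C) (D.stX r t) = C.xU K r t := by
  obtain ⟨i, j, h'⟩ := h
  simp [stX, h'.1, glGen, show Small C r from ⟨i, j, h'⟩]

theorem hWord_small (C : Cert D) {r : ℕ} (h : Small C r) (t : K) :
    ∀ p ∈ D.hWord r t, Small C p.1 := by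
  obtain ⟨i, j, h⟩ := h
  have h' : Small C (D.neg r) := ⟨i, j, two_neg C h⟩
  have h'' : Small C r := ⟨i, j, h⟩
  intro p hp
  simp only [hWord, nWord, List.mem_append, List.mem_cons, List.not_mem_nil, or_false] at hp
  rcases hp with (rfl | rfl | rfl) | rfl | rfl | rfl <;> assumption

theorem glGen_word (C : Cert D) (w : List (ℕ × K)) (h : ∀ p ∈ w, Small C p.1) :
    FreeGroup.lift (glGen K C) (D.stWord w) = (w.map fun p => C.xU K p.1 p.2).prod := by
  rw [map_stWord _ (fun r t => FreeGroup.lift (glGen K C) (D.stX r t)) fun _ _ => rfl]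
  congr 1
  exact List.map_congr_left fun p hp => glGen_stX C p.1 p.2 (h p hp)

theorem glGen_rels (C : Cert D) (hk : Chk C) :
    ∀ g ∈ D.curtisTitsRels K, FreeGroup.lift (glGen K C) g = 1 := by
  rintro g (((⟨r, t, hr, h, rfl⟩ | ⟨i, j, r, t, u, h, rfl⟩) | ⟨i, j, r, s, t, u, hr, hs, h1, h2, rfl⟩) |
    ⟨i, j, r, t, u, h, ht, hu, rfl⟩)
  · have : ¬ Small C r := fun ⟨i, j, hij⟩ => h i j ((two_iff C hk).2 hij)
    simp [stX, hr, glGen, this]
  · have hS : Small C r := ⟨i, j, (two_iff C hk).1 h⟩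
    rw [map_mul, map_mul, map_inv, glGen_stX C r t hS, glGen_stX C r u hS, glGen_stX C r _ hS,
      C.xU_add, mul_inv_cancel]
  · have hr' := (two_iff C hk).1 hr
    have hs' := (two_iff C hk).1 hs
    rw [map_mul, map_inv, glGen_word C _ ?_, map_mul, map_mul, map_mul, map_inv, map_inv,
      glGen_stX C r t ⟨i, j, hr'⟩, glGen_stX C s u ⟨i, j, hs'⟩,
      gl_comm K C hr'.1 hs'.1 h1 h2, mul_inv_cancel]
    intro p hp
    simp only [commWord, List.mem_map] at hp
    obtain ⟨c, hc, rfl⟩ := hp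
    exact ⟨i, j, two_comm C hr' hs' c hc⟩
  · have h' := (two_iff C hk).1 h
    have hS : Small C r := ⟨i, j, h'⟩
    rw [map_mul, map_mul, map_inv, stH, stH, stH, glGen_word C _ (hWord_small C hS t),
      glGen_word C _ (hWord_small C hS u), glGen_word C _ (hWord_small C hS _),
      gl_hMul K C h'.1 t u ht hu, mul_inv_cancel]

variable (K) in
/-- the map to the matrix group -/
noncomputable def toGL (C : Cert D) (hk : Chk C) : D.CurtisTitsGroup K →* GL D.Idx K :=
  PresentedGroup.toGroup (glGen_rels C hk)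

theorem toGL_X (C : Cert D) (hk : Chk C) {r : ℕ} (h : Small C r) (t : K) :
    toGL K C hk (X K r t) = C.xU K r t :=
  glGen_stX C r t h

variable (K) in
/-- the rank-two system -/
noncomputable def sys (C : Cert D) (hk : Chk C) (i j : ℕ) : Sys C K (D.CurtisTitsGroup K) where
  Sub := Two C i j
  f := X K
  rho := toGL K C hk
  sub_lt h := h.1
  sub_neg h := two_neg C h
  sub_comm hr hs := two_comm C hr hs
  rho_f h t := toGL_X C hk ⟨i, j, h⟩ t
  add h t u := X_add C hk h t u
  comm hr hs h1 h2 t u := X_comm C hk hr hs h1 h2 t u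

variable (K) in
/-- the monomial element of a fundamental root -/
def cn (i : ℕ) : D.CurtisTitsGroup K :=
  X K (D.simple i) 1 * X K (D.neg (D.simple i)) (-(1 : K)⁻¹) * X K (D.simple i) 1

variable (C : Cert D) (hk : Chk C)
include hk

theorem toGL_cn {i : ℕ} (hi : i < D.rank) : toGL K C hk (cn K i) = C.nS K i :=
  (sys K C hk i i).rho_n (two_simple C hi hi)

/-- conjugation by `n_i` inside a rank-two subsystem -/
theorem X_conj {i j r : ℕ} (h : Two C i j r) (t : K) :
    cn K i * X (D := D) K r t * (cn K i)⁻¹ = X K (C.w i r) ((C.sg i r : K) * t) := by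
  have hi := h.2.1
  by_cases hp : r = D.simple i ∨ r = D.neg (D.simple i)
  · obtain ⟨b, hb, hab, hA, hB⟩ := hk.adj i hi
    exact (sys K C hk i b).simple_conj_self hi hb hab hA hB (two_simple C hi hb)
      (two_simple' C hi hb) (fun r hr => two_w C hr) hp t
  · push Not at hp
    exact (sys K C hk i j).simple_conj hi (two_simple C hi h.2.2.1) h (two_w C h).1 hp.1 hp.2 t

theorem N_inv {i j q : ℕ} (h : Two C i j q) :
    (sys K C hk i j).N q (-1) = ((sys K C hk i j).N q 1)⁻¹ := by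
  have e := fun r (hr : Two C i j r) t => (sys K C hk i j).f_inv (r := r) hr t
  simp only [Sys.N, mul_inv_rev, e q h, e _ (two_neg C h), inv_neg, inv_one, _root_.neg_neg,
    mul_assoc]

/-- conjugation of a rank-two monomial element -/
theorem N_conj {i j q : ℕ} (h : Two C i j q) (h1 : q ≠ D.simple i) (h2 : q ≠ D.neg (D.simple i))
    (t : K) : cn K i * (sys K C hk i j).N q t * (cn K i)⁻¹ =
      (sys K C hk i j).N (C.w i q) ((C.sg i q : K) * t) :=
  (sys K C hk i j).simple_conj_N h.2.1 (two_simple C h.2.1 h.2.2.1) h (two_w C h).1 h1 h2 t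

omit hk in
include C in
theorem simple_ne {i j : ℕ} (hi : i < D.rank) (hj : j < D.rank) (h : i ≠ j) :
    D.simple j ≠ D.simple i ∧ D.simple j ≠ D.neg (D.simple i) := by
  have := C.cf_simple j hj j hj
  rw [if_pos rfl] at this
  constructor <;> intro e <;> rw [e] at this
  · rw [C.cf_simple i hi j hj, if_neg (Ne.symm h)] at this
    omega
  · rw [C.cf_neg _ (C.simple_lt i hi).1 j hj, C.cf_simple i hi j hj, if_neg (Ne.symm h)] at this
    omega

/-- `n_i² n_j n_i⁻² = n_j^{±1}` -/
theorem sq_conj {i j : ℕ} (hi : i < D.rank) (hj : j < D.rank) (h : i ≠ j) :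
    cn K i * cn K i * cn K j = cn (D := D) K j * (cn K i * cn K i) ∨
    cn K i * cn K i * cn K j = cn (D := D) K j * ((cn K j)⁻¹ * (cn K j)⁻¹ * (cn K i * cn K i)) := by
  have hne := simple_ne C hi hj h
  have hT := two_simple' C hi hj
  have hT' := (two_w C hT).1
  have hpi := (C.simple_lt i hi).1
  have hpj := (C.simple_lt j hj).1
  have hne' : C.w i (D.simple j) ≠ D.simple i ∧ C.w i (D.simple j) ≠ D.neg (D.simple i) := by
    constructor <;> intro e
    · refine hne.2 (C.w_inj hi hpj (C.neg_lt hpi) ?_)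
      rw [e, C.w_neg hi hpi, w_simple C hi, C.neg_neg hpi]
    · refine hne.1 (C.w_inj hi hpj hpi ?_)
      rw [e, w_simple C hi]
  have e1 : cn K i * cn K j * (cn K i)⁻¹ =
      (sys K C hk i j).N (C.w i (D.simple j)) ((C.sg i (D.simple j) : K) * 1) :=
    N_conj C hk hT hne.1 hne.2 (1 : K)
  have e2 := N_conj C hk hT' hne'.1 hne'.2 ((C.sg i (D.simple j) : K) * 1)
  rw [(C.w_lt i hi _ hpj).2, ← e1, mul_one, ← Int.cast_mul] at e2
  have e3 : cn K i * cn K i * cn K j =
      (sys K C hk i j).N (D.simple j) ((C.sg i (C.w i (D.simple j)) * C.sg i (D.simple j) : ℤ) : K) *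
        (cn K i * cn K i) := by
    rw [← e2]
    group
  have hd : C.sg i (C.w i (D.simple j)) * C.sg i (D.simple j) = 1 ∨
      C.sg i (C.w i (D.simple j)) * C.sg i (D.simple j) = -1 := by
    rcases C.sg_pm i (C.w i (D.simple j)) with a | a <;>
      rcases C.sg_pm i (D.simple j) with b | b <;> simp [a, b]
  rcases hd with hd | hd
  · rw [hd, Int.cast_one] at e3
    exact Or.inl e3
  · rw [hd, Int.cast_neg, Int.cast_one, N_inv C hk hT] at e3
    refine Or.inr (e3.trans ?_)
    show (cn K j)⁻¹ * _ = _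
    group

theorem braid_two {i j : ℕ} (hi : i < D.rank) (hj : j < D.rank) (h : i ≠ j)
    (hA : D.cartan i (D.simple j) = 0) : cn K i * cn K j = cn (D := D) K j * cn K i := by
  have hne := simple_ne C hi hj h
  rcases hk.pair i hi j hj h with ⟨-, -, hs⟩ | ⟨e, -⟩ | ⟨⟨e, -⟩ | ⟨e, -⟩, -⟩
  · have e1 := N_conj C hk (two_simple' C hi hj) hne.1 hne.2 (1 : K)
    have hw : C.w i (D.simple j) = D.simple j := by
      have hpj := (C.simple_lt j hj).1
      refine C.eq_of_cf (C.w_lt i hi _ hpj).1 hpj fun k hk' => ?_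
      rw [C.cf_w i hi _ hpj k hk', hA, ite_self, sub_zero]
    rw [hw, hs, Int.cast_one, one_mul, mul_inv_eq_iff_eq_mul] at e1
    exact e1
  all_goals omega

theorem braid_three {i j : ℕ} (hi : i < D.rank) (hj : j < D.rank) (h : i ≠ j)
    (hA : D.cartan i (D.simple j) = -1) (hB : D.cartan j (D.simple i) = -1) :
    cn K j * cn K i * cn K j = cn (D := D) K i * cn K j * cn K i := by
  have hne := simple_ne C hi hj h
  have hpi := (C.simple_lt i hi).1
  have hpj := (C.simple_lt j hj).1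
  rcases hk.pair i hi j hj h with ⟨e, -⟩ | ⟨-, -, hs⟩ | ⟨⟨-, e⟩ | ⟨e, -⟩, -⟩
  · omega
  · set q := C.w i (D.simple j) with hq
    have hq' := (C.w_lt i hi _ hpj).1
    have hcf : ∀ k < D.rank, C.cf q k = (if k = j then 1 else 0) + if k = i then 1 else 0 := by
      intro k hk'
      rw [hq, C.cf_w i hi _ hpj k hk', hA, C.cf_simple j hj k hk']
      split <;> split <;> omega
    have hwq : C.w j q = D.simple i := by
      refine C.eq_of_cf (C.w_lt j hj _ hq').1 hpi fun k hk' => ?_
      rw [C.cf_w j hj q hq' k hk', hcf k hk', C.cf_simple i hi k hk', hq,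
        C.cartan_w hi hj hpj, C.cartan_self j hj, hA, hB]
      split <;> split <;> omega
    have hqne : q ≠ D.simple j ∧ q ≠ D.neg (D.simple j) := by
      have e := hcf i hi
      rw [if_neg h, if_pos rfl, zero_add] at e
      constructor <;> intro e' <;> rw [e'] at e
      · rw [C.cf_simple j hj i hi, if_neg h] at e; omega
      · rw [C.cf_neg _ hpj i hi, C.cf_simple j hj i hi, if_neg h] at e; omega
    have e1 : cn K i * cn K j * (cn K i)⁻¹ =
        (sys K C hk i j).N q ((C.sg i (D.simple j) : K) * 1) :=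
      N_conj C hk (two_simple' C hi hj) hne.1 hne.2 (1 : K)
    have e2 := N_conj C hk (two_symm C (two_w C (two_simple' C hi hj)).1) hqne.1 hqne.2
      ((C.sg i (D.simple j) : K) * 1)
    rw [hwq, ← mul_assoc, ← Int.cast_mul, ← hq, hs, Int.cast_one, one_mul] at e2
    have e2' : cn K j * (sys K C hk i j).N q ((C.sg i (D.simple j) : K) * 1) * (cn K j)⁻¹ =
        cn (D := D) K i := e2
    rw [← e1] at e2'
    have e3 : cn K j * cn K i * cn K j * (cn K i)⁻¹ * (cn K j)⁻¹ = cn (D := D) K i := by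
      refine Eq.trans ?_ e2'
      group
    calc cn K j * cn K i * cn K j
        = cn K j * cn K i * cn K j * (cn K i)⁻¹ * (cn K j)⁻¹ * (cn K j * cn K i) := by group
      _ = cn (D := D) K i * cn K j * cn K i := by rw [e3, mul_assoc]
  all_goals omega

theorem braid_four {i j : ℕ} (hi : i < D.rank) (hj : j < D.rank) (h : i ≠ j)
    (hAB : (D.cartan i (D.simple j) = -1 ∧ D.cartan j (D.simple i) = -2) ∨
      (D.cartan i (D.simple j) = -2 ∧ D.cartan j (D.simple i) = -1)) :
    cn K i * cn K j * cn K i * cn K j = cn (D := D) K j * cn K i * cn K j * cn K i := by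
  have hne := simple_ne C hi hj h
  have hpi := (C.simple_lt i hi).1
  have hpj := (C.simple_lt j hj).1
  rcases hk.pair i hi j hj h with ⟨e, -⟩ | ⟨e, e', -⟩ | ⟨-, hs⟩
  · omega
  · omega
  · set q := C.w i (D.simple j) with hq
    have hq' := (C.w_lt i hi _ hpj).1
    set q₂ := C.w j q with hq₂
    have hq₂' := (C.w_lt j hj _ hq').1
    have hcfi : C.cf q i ≠ 0 := by
      rw [hq, C.cf_w i hi _ hpj i hi, C.cf_simple j hj i hi, if_pos rfl, if_neg h]
      omega
    have hqne : q ≠ D.simple j ∧ q ≠ D.neg (D.simple j) := by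
      constructor <;> intro e <;> apply hcfi <;> rw [e]
      · rw [C.cf_simple j hj i hi, if_neg h]
      · rw [C.cf_neg _ hpj i hi, C.cf_simple j hj i hi, if_neg h, neg_zero]
    have hcj : D.cartan j q = 2 - D.cartan i (D.simple j) * D.cartan j (D.simple i) := by
      rw [hq, C.cartan_w hi hj hpj, C.cartan_self j hj]
    have hcfj : C.cf q₂ j = 1 := by
      rw [hq₂, C.cf_w j hj q hq' j hj, if_pos rfl, hq, C.cf_w i hi _ hpj j hj,
        C.cf_simple j hj j hj, if_pos rfl, if_neg (Ne.symm h), ← hq, hcj]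
      rcases hAB with ⟨a, b⟩ | ⟨a, b⟩ <;> rw [a, b] <;> norm_num
    have hq₂ne : q₂ ≠ D.simple i ∧ q₂ ≠ D.neg (D.simple i) := by
      constructor <;> intro e <;> rw [e] at hcfj
      · rw [C.cf_simple i hi j hj, if_neg (Ne.symm h)] at hcfj; omega
      · rw [C.cf_neg _ hpi j hj, C.cf_simple i hi j hj, if_neg (Ne.symm h)] at hcfj; omega
    have hwq₂ : C.w i q₂ = D.simple j := by
      refine C.eq_of_cf (C.w_lt i hi _ hq₂').1 hpj fun k hk' => ?_
      rw [C.cf_w i hi q₂ hq₂' k hk', hq₂, C.cartan_w hj hi hq', C.cf_w j hj q hq' k hk', hcj, hq,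
        C.cartan_w_self hi hpj, C.cf_w i hi _ hpj k hk', C.cf_simple j hj k hk']
      rcases hAB with ⟨a, b⟩ | ⟨a, b⟩ <;> rw [a, b] <;> split <;> split <;> omega
    have hT := (two_w C (two_simple' C hi hj)).1
    have e1 : cn K i * cn K j * (cn K i)⁻¹ =
        (sys K C hk i j).N q ((C.sg i (D.simple j) : K) * 1) :=
      N_conj C hk (two_simple' C hi hj) hne.1 hne.2 (1 : K)
    have e2 := N_conj C hk (two_symm C hT) hqne.1 hqne.2 ((C.sg i (D.simple j) : K) * 1)
    have e3 := N_conj C hk (two_w C hT).2 hq₂ne.1 hq₂ne.2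
      ((C.sg j q : K) * ((C.sg i (D.simple j) : K) * 1))
    rw [← hq₂, hwq₂, mul_one, ← Int.cast_mul, ← Int.cast_mul, hs, Int.cast_one] at e3
    have e3' : cn K i * (sys K C hk i j).N q₂ ((C.sg j q * C.sg i (D.simple j) : ℤ) : K) *
        (cn K i)⁻¹ = cn (D := D) K j := e3
    have e2' : cn K j * (sys K C hk i j).N q ((C.sg i (D.simple j) : K) * 1) * (cn K j)⁻¹ =
        (sys K C hk i j).N q₂ ((C.sg j q * C.sg i (D.simple j) : ℤ) : K) := by
      refine e2.trans ?_
      rw [Int.cast_mul, mul_one]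
      rfl
    rw [← e2', ← e1] at e3'
    have e4 : cn K i * cn K j * cn K i * cn K j * (cn K i * cn K j * cn K i)⁻¹ =
        cn (D := D) K j := by
      refine Eq.trans ?_ e3'
      group
    calc cn K i * cn K j * cn K i * cn K j
        = cn K i * cn K j * cn K i * cn K j * (cn K i * cn K j * cn K i)⁻¹ *
            (cn K i * cn K j * cn K i) := by group
      _ = cn (D := D) K j * cn K i * cn K j * cn K i := by rw [e4]; group

end Cfsg.Agent.H38.CT
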