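/-
Kernel-checkable form of the finite facts used for the Curtis–Tits presentation.
-/
import Cfsg.Agent.H38.CT.Small
import Cfsg.Agent.Chevalley.Check

set_option autoImplicit false

namespace Cfsg.Agent.H38.CT

open Cfsg.Lie Cfsg.Lie.ChevalleyDatum Cfsg.Agent.Chevalley

/-- the root is in the subsystem of `(i, j)` -/
def twoB (D : ChevalleyDatum) (cf : ℕ → ℕ → ℤ) (i j r : ℕ) : Bool :=
  decide (r < D.nroots) &&
    ((List.range D.rank).all fun k => (k == i) || (k == j) || (cf r k == 0))

def chkCor (D : ChevalleyDatum) (cf : ℕ → ℕ → ℤ) : Bool :=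
  (List.range D.nroots).all fun r => (List.range D.rank).all fun k =>
    (cor D r k == 0) == (cf r k == 0)

def chkAdj (D : ChevalleyDatum) : Bool :=
  (List.range D.rank).all fun a => (List.range D.rank).any fun b =>
    !(a == b) && !(D.cartan a (D.simple b) == 0) && !(D.cartan b (D.simple a) == 0)

def chkPair (D : ChevalleyDatum) (w : ℕ → ℕ → ℕ) (sg : ℕ → ℕ → ℤ) : Bool :=
  (List.range D.rank).all fun i => (List.range D.rank).all fun j =>
    let A := D.cartan i (D.simple j)
    let B := D.cartan j (D.simple i)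
    let p := D.simple j
    (i == j) || ((A == 0) && (B == 0) && (sg i p == 1)) ||
      ((A == -1) && (B == -1) && (sg j (w i p) * sg i p == 1)) ||
      ((((A == -1) && (B == -2)) || ((A == -2) && (B == -1))) &&
        (sg i (w j (w i p)) * (sg j (w i p) * sg i p) == 1))

/-- every extremal pair of roots is moved by one of the words into a rank-two subsystem -/
def chkTrans (D : ChevalleyDatum) (w : ℕ → ℕ → ℕ) (cf : ℕ → ℕ → ℤ) (Ls : List (List ℕ)) : Bool :=
  (List.range D.nroots).all fun r =>
    ((List.range D.rank).any fun i => decide (r < w i r)) ||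
    (List.range D.nroots).all fun s => (s == r) || (s == D.neg r) ||
      ((List.range D.rank).any fun i => (w i r == r) && decide (s < w i s)) ||
      Ls.any fun L => (L.all fun i => decide (i < D.rank)) &&
        ((List.range D.rank).any fun i => (List.range D.rank).any fun j =>
          twoB D cf i j (actW w L r) && twoB D cf i j (actW w L s))

theorem chk_of {D : ChevalleyDatum} (C : Cert D) {w : ℕ → ℕ → ℕ} {sg cf : ℕ → ℕ → ℤ}
    {Ls : List (List ℕ)} (hw : C.w = w) (hsg : C.sg = sg) (hcf : C.cf = cf)
    (h1 : chkCor D cf = true) (h2 : chkAdj D = true) (h3 : chkPair D w sg = true)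
    (h4 : chkTrans D w cf Ls = true) : Chk C := by
  subst hw hsg hcf
  constructor
  · intro r hr k hk
    simp only [chkCor, List.all_eq_true, List.mem_range] at h1
    have := h1 r hr k hk
    simpa only [beq_iff_eq, decide_eq_decide, Bool.beq_eq_decide_eq, decide_eq_true_eq] using this
  · intro a ha
    simp only [chkAdj, List.all_eq_true, List.mem_range, List.any_eq_true, Bool.and_eq_true,
      Bool.not_eq_true', beq_eq_false_iff_ne] at h2
    obtain ⟨b, hb, ⟨e1, e2⟩, e3⟩ := h2 a ha
    exact ⟨b, hb, e1, e2, e3⟩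
  · intro i hi j hj hij
    simp only [chkPair, List.all_eq_true, List.mem_range, Bool.or_eq_true, Bool.and_eq_true,
      beq_iff_eq] at h3
    rcases h3 i hi j hj with ((e | e) | e) | e
    · exact absurd e hij
    · exact Or.inl ⟨e.1.1, e.1.2, e.2⟩
    · exact Or.inr (Or.inl ⟨e.1.1, e.1.2, e.2⟩)
    · exact Or.inr (Or.inr e)
  · intro r hr htop s hs hsr hsn hstab
    simp only [chkTrans, List.all_eq_true, List.mem_range, List.any_eq_true, Bool.or_eq_true,
      Bool.and_eq_true, beq_iff_eq, decide_eq_true_eq, twoB] at h4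
    rcases h4 r hr with ⟨i, hi, h⟩ | h
    · exact absurd h (htop i hi)
    rcases h s hs with ((e | e) | ⟨i, hi, e1, e2⟩) | ⟨L, -, hL, i, hi, j, hj, ⟨a1, a2⟩, b1, b2⟩
    · exact absurd e hsr
    · exact absurd e hsn
    · exact absurd e2 (hstab i hi e1)
    · exact ⟨L, hL, i, j,
        ⟨a1, hi, hj, fun k hk x y => ((a2 k hk).resolve_left fun h => h.elim x y)⟩,
        ⟨b1, hi, hj, fun k hk x y => ((b2 k hk).resolve_left fun h => h.elim x y)⟩⟩

end Cfsg.Agent.H38.CT
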