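/-
The finite facts for the data of type D4, F4, E6, E7, E8.
-/
import Cfsg.Agent.H38.CT.Check
import Cfsg.Agent.Chevalley.All

set_option autoImplicit false
set_option maxRecDepth 100000

namespace Cfsg.Agent.H38.CT

open Cfsg.Lie Cfsg.Agent.Chevalley

def wordsD4 : List (List ℕ) :=
  [[2, 3, 1, 0], [1, 0, 3, 1], [1, 2, 3, 1]]

theorem chkD4 : Chk D4.cert :=
  chk_of D4.cert (w := D4.tab.w) (sg := D4.tab.sg) (cf := D4.tab.cf chevD4) (Ls := wordsD4)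
    rfl rfl rfl (by decide +kernel) (by decide +kernel) (by decide +kernel) (by decide +kernel)

def wordsF4 : List (List ℕ) :=
  [[0, 1, 3, 2, 1, 0, 2, 3], [2, 3, 1, 2, 3, 1, 0, 2, 1], [0, 2, 1, 3, 0, 2, 3, 1, 0, 2], [1, 0, 2, 1, 3, 2, 1, 3, 2], [0, 2, 1, 0, 2, 1, 3, 2, 1, 3]]

theorem chkF4 : Chk F4.cert :=
  chk_of F4.cert (w := F4.tab.w) (sg := F4.tab.sg) (cf := F4.tab.cf chevF4) (Ls := wordsF4)
    rfl rfl rfl (by decide +kernel) (by decide +kernel) (by decide +kernel) (by decide +kernel)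

def wordsE6 : List (List ℕ) :=
  [[3, 1, 2, 0, 3, 2, 4, 5, 3, 1, 4, 3], [0, 3, 2, 0, 4, 5, 3, 4, 1, 2, 3, 1, 2, 0]]

theorem chkE6 : Chk E6.cert :=
  chk_of E6.cert (w := E6.tab.w) (sg := E6.tab.sg) (cf := E6.tab.cf chevE6) (Ls := wordsE6)
    rfl rfl rfl (by decide +kernel) (by decide +kernel) (by decide +kernel) (by decide +kernel)

def wordsE7 : List (List ℕ) :=
  [[4, 3, 1, 2, 0, 3, 2, 4, 3, 1, 5, 6, 4, 5, 3, 4, 2, 0, 3, 2], [5, 2, 4, 1, 3, 0, 2, 5, 1, 4, 0, 3, 1, 2, 4, 5, 3, 6, 1, 4, 3, 5, 2, 0]]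

theorem chkE7 : Chk E7.cert :=
  chk_of E7.cert (w := E7.tab.w) (sg := E7.tab.sg) (cf := E7.tab.cf chevE7) (Ls := wordsE7)
    rfl rfl rfl (by decide +kernel) (by decide +kernel) (by decide +kernel) (by decide +kernel)

def wordsE8 : List (List ℕ) :=
  [[5, 4, 3, 1, 2, 0, 3, 2, 4, 3, 1, 5, 6, 4, 7, 3, 5, 2, 6, 0, 4, 3, 5, 2, 4, 1, 3, 4, 2, 5, 1, 6, 3, 7, 4, 5, 6], [0, 3, 2, 0, 4, 5, 3, 6, 2, 7, 1, 4, 3, 1, 2, 0, 5, 6, 4, 5, 3, 4, 1, 3, 2, 0, 3, 2, 4, 1, 5, 3, 6, 2, 4, 5, 3, 6, 4, 7, 1, 3, 2, 0]]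

theorem chkE8 : Chk E8.cert :=
  chk_of E8.cert (w := E8.tab.w) (sg := E8.tab.sg) (cf := E8.tab.cf chevE8) (Ls := wordsE8)
    rfl rfl rfl (by decide +kernel) (by decide +kernel) (by decide +kernel) (by decide +kernel)

theorem exists_chk {D : ChevalleyDatum}
    (hD : D ∈ [chevD4, chevF4, chevE6, chevE7, chevE8]) : ∃ C : Cert D, Chk C := by
  simp only [List.mem_cons, List.not_mem_nil, or_false] at hD
  rcases hD with rfl | rfl | rfl | rfl | rfl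
  · exact ⟨_, chkD4⟩
  · exact ⟨_, chkF4⟩
  · exact ⟨_, chkE6⟩
  · exact ⟨_, chkE7⟩
  · exact ⟨_, chkE8⟩

end Cfsg.Agent.H38.CT
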