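/-
Descents of roots by fundamental reflections, for both signs at once.
-/
import Cfsg.Agent.H38.CT.Small

set_option autoImplicit false

namespace Cfsg.Agent.H38.CT

open Cfsg.Lie Cfsg.Lie.ChevalleyDatum Cfsg.Agent.Chevalley

variable {D : ChevalleyDatum} (C : Cert D)

open Classical in
/-- sign of a root -/
noncomputable def sgnR (D : ChevalleyDatum) (r : ℕ) : ℤ := if Pos (D := D) r then 1 else -1

/-- height -/
def ht (r : ℕ) : ℤ := lev C (fun _ => 1) r

/-- `r` is a signed fundamental root -/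
def PmSimple (D : ChevalleyDatum) (r : ℕ) : Prop :=
  ∃ i < D.rank, r = D.simple i ∨ r = D.neg (D.simple i)

/-- the reflection in `p_i` moves `r` towards zero -/
def Dn (i r : ℕ) : Prop :=
  r < D.nroots ∧ i < D.rank ∧ r ≠ D.simple i ∧ r ≠ D.neg (D.simple i) ∧
    0 < sgnR D r * D.cartan i r

theorem sgnR_cases (r : ℕ) : sgnR D r = 1 ∨ sgnR D r = -1 := by
  unfold sgnR; split <;> simp

theorem pos_w {i r : ℕ} (hi : i < D.rank) (hr : r < D.nroots) (h1 : r ≠ D.simple i)
    (h2 : r ≠ D.neg (D.simple i)) : Pos (D := D) (C.w i r) ↔ Pos (D := D) r := by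
  by_cases hp : Pos (D := D) r
  · exact iff_of_true (C.w_pos i hi r hr hp h1) hp
  · refine iff_of_false (fun hw => ?_) hp
    have h := C.w_pos i hi _ (C.neg_lt hr) ((pos_neg C hr).2 hp)
      (fun e => h2 (by rw [← e, C.neg_neg hr]))
    rw [C.w_neg hi hr] at h
    exact (pos_neg C (C.w_lt i hi r hr).1).1 h hw

theorem sgnR_w {i r : ℕ} (hi : i < D.rank) (hr : r < D.nroots) (h1 : r ≠ D.simple i)
    (h2 : r ≠ D.neg (D.simple i)) : sgnR D (C.w i r) = sgnR D r := by
  have := pos_w C hi hr h1 h2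
  unfold sgnR
  by_cases h : Pos (D := D) r
  · rw [if_pos h, if_pos (this.2 h)]
  · rw [if_neg h, if_neg (mt this.1 h)]

include C in
theorem sgnR_neg {r : ℕ} (hr : r < D.nroots) : sgnR D (D.neg r) = -sgnR D r := by
  have := pos_neg C hr
  unfold sgnR
  by_cases h : Pos (D := D) r
  · rw [if_pos h, if_neg (fun e => this.1 e h)]
  · rw [if_neg h, if_pos (this.2 h)]
    rfl

theorem sgn_cf_nonneg {r k : ℕ} (hr : r < D.nroots) (hk : k < D.rank) :
    0 ≤ sgnR D r * C.cf r k := by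
  unfold sgnR
  split
  · next h => simpa using C.cf_nonneg r hr h k hk
  · next h =>
    have := C.cf_nonneg _ (C.neg_lt hr) ((pos_neg C hr).2 h) k hk
    rw [C.cf_neg r hr k hk] at this
    omega

theorem ht_ne {r : ℕ} (hr : r < D.nroots) : 0 < sgnR D r * ht C r := by
  have h0 : 0 ≤ sgnR D r * ht C r := by
    simp only [ht, lev, one_mul, Finset.mul_sum]
    exact Finset.sum_nonneg fun k hk => sgn_cf_nonneg C hr (Finset.mem_range.1 hk)
  refine lt_of_le_of_ne h0 fun e => ?_
  simp only [ht, lev, one_mul, Finset.mul_sum] at e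
  have hz := (Finset.sum_eq_zero_iff_of_nonneg
    fun k hk => sgn_cf_nonneg C hr (Finset.mem_range.1 hk)).1 e.symm
  refine (C.code_pos r hr).2 ?_
  have hcf : ∀ j < D.rank, C.cf r j = 0 := fun j hj => by
    rcases sgnR_cases (D := D) r with h | h <;>
      simpa [h] using hz j (Finset.mem_range.2 hj)
  simpa using C.code_lin (u := r) (a := 0) (b := 0) hr hr hr
    (fun j hj => by rw [hcf j hj]; ring)

theorem dn_lt {i r : ℕ} (h : Dn i r (D := D)) :
    (ht C (C.w i r)).natAbs < (ht C r).natAbs := by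
  obtain ⟨hr, hi, h1, h2, hc⟩ := h
  have a := ht_ne C hr
  have b := ht_ne C (C.w_lt i hi r hr).1
  rw [sgnR_w C hi hr h1 h2] at b
  have e : ht C (C.w i r) = ht C r - D.cartan i r := by
    rw [ht, lev_w C _ hi hr, mul_one]; rfl
  rw [e] at b ⊢
  rcases sgnR_cases (D := D) r with s | s <;> rw [s] at a b hc <;> omega

include C in
theorem cartan_neg {i r : ℕ} (hi : i < D.rank) (hr : r < D.nroots) :
    D.cartan i (D.neg r) = -D.cartan i r := by
  rw [C.cartan_lin i hi _ (C.neg_lt hr), C.cartan_lin i hi r hr, list_sum_range_map,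
    list_sum_range_map, ← Finset.sum_neg_distrib]
  refine Finset.sum_congr rfl fun m hm => ?_
  rw [C.cf_neg r hr m (Finset.mem_range.1 hm), neg_mul]

include C in
theorem exists_dn {r : ℕ} (hr : r < D.nroots) (h : ¬ PmSimple D r) : ∃ i, Dn i r (D := D) := by
  have hp : ∀ r < D.nroots, Pos (D := D) r → (∀ i < D.rank, r ≠ D.simple i) →
      ∃ i < D.rank, 0 < D.cartan i r := by
    intro r hr hpos hne
    obtain ⟨i, hi, e | ⟨-, hlt⟩⟩ := C.w_down r hr hpos
    · exact absurd e (hne i hi)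
    · refine ⟨i, hi, ?_⟩
      have hp := C.simple_lt i hi
      have hcp := (C.code_pos _ hp.1).1.2 hp.2
      have hmono := C.code_mono hlt hr
      rw [C.code_lin (u := C.w i r) (a := 1) (b := -D.cartan i r) (C.w_lt i hi r hr).1 hr hp.1
        (fun j hj => by rw [C.cf_w i hi r hr j hj, C.cf_simple i hi j hj]; split <;> ring)] at hmono
      by_contra hc
      push Not at hc
      have : 0 ≤ -D.cartan i r * C.code (D.simple i) := mul_nonneg (by omega) hcp.le
      omega
  have hne : ∀ i < D.rank, r ≠ D.simple i ∧ r ≠ D.neg (D.simple i) := fun i hi =>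
    ⟨fun e => h ⟨i, hi, Or.inl e⟩, fun e => h ⟨i, hi, Or.inr e⟩⟩
  by_cases hpos : Pos (D := D) r
  · obtain ⟨i, hi, hc⟩ := hp r hr hpos fun i hi => (hne i hi).1
    exact ⟨i, hr, hi, (hne i hi).1, (hne i hi).2, by simpa [sgnR, hpos] using hc⟩
  · obtain ⟨i, hi, hc⟩ := hp _ (C.neg_lt hr) ((pos_neg C hr).2 hpos) fun i hi e =>
      (hne i hi).2 (by rw [← e, C.neg_neg hr])
    rw [cartan_neg C hi hr] at hc
    exact ⟨i, hr, hi, (hne i hi).1, (hne i hi).2, by simpa [sgnR, hpos] using hc⟩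

theorem cartan_simple_nonpos (hk : Chk C) {i j : ℕ} (hi : i < D.rank) (hj : j < D.rank)
    (h : i ≠ j) : D.cartan i (D.simple j) ≤ 0 := by
  rcases hk.pair i hi j hj h with ⟨e, -⟩ | ⟨e, -⟩ | ⟨⟨e, -⟩ | ⟨e, -⟩, -⟩ <;> omega

/-- a descent of a small root is one of the two defining indices -/
theorem dn_two (hk : Chk C) {a b i r : ℕ} (h : Two C a b r) (hd : Dn i r (D := D)) :
    i = a ∨ i = b := by
  obtain ⟨hr, hi, -, -, hc⟩ := hd
  by_contra hne
  push Not at hne
  have : sgnR D r * D.cartan i r ≤ 0 := by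
    rw [C.cartan_lin i hi r hr, list_sum_range_map, Finset.mul_sum]
    refine Finset.sum_nonpos fun m hm => ?_
    have hm' := Finset.mem_range.1 hm
    rw [← mul_assoc]
    by_cases e : m = a ∨ m = b
    · refine mul_nonpos_of_nonneg_of_nonpos (sgn_cf_nonneg C hr hm') ?_
      refine cartan_simple_nonpos C hk hi hm' ?_
      rintro rfl
      rcases e with e | e
      · exact hne.1 e
      · exact hne.2 e
    · push Not at e
      rw [h.2.2.2 m hm' e.1 e.2, mul_zero, zero_mul]
  omega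

/-- descent data at a root with a coefficient outside `{i, j}` -/
theorem out_ne {i k r : ℕ} (hi : i < D.rank) (hk : k < D.rank) (hr : r < D.nroots) (hki : k ≠ i)
    (h : C.cf r k ≠ 0) : r ≠ D.simple i ∧ r ≠ D.neg (D.simple i) := by
  refine ⟨fun e => h ?_, fun e => h ?_⟩
  · rw [e, C.cf_simple i hi k hk, if_neg hki]
  · rw [e, C.cf_neg _ (C.simple_lt i hi).1 k hk, C.cf_simple i hi k hk, if_neg hki, neg_zero]

/-- a root with a coefficient outside `{i, j}`, with its two Cartan numbers times the sign -/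
structure Out (i j k r : ℕ) (σ a b : ℤ) : Prop where
  lt : r < D.nroots
  ne : C.cf r k ≠ 0
  sgn : sgnR D r = σ
  ci : σ * D.cartan i r = a
  cj : σ * D.cartan j r = b

variable {C}

theorem Out.dn {i j k r : ℕ} {σ a b : ℤ} (hi : i < D.rank) (hk : k < D.rank) (hki : k ≠ i)
    (h : Out C i j k r σ a b) (ha : 0 < a) : Dn i r (D := D) :=
  ⟨h.lt, hi, (out_ne C hi hk h.lt hki h.ne).1, (out_ne C hi hk h.lt hki h.ne).2,
    by rw [h.sgn, h.ci]; exact ha⟩

theorem Out.symm {i j k r : ℕ} {σ a b : ℤ} (h : Out C i j k r σ a b) : Out C j i k r σ b a :=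
  ⟨h.lt, h.ne, h.sgn, h.cj, h.ci⟩

theorem Out.step {i j k r : ℕ} {σ a b a' b' : ℤ} (hi : i < D.rank) (hj : j < D.rank)
    (hk : k < D.rank) (hki : k ≠ i) (h : Out C i j k r σ a b) (ea : a' = -a)
    (eb : b' = b - a * D.cartan j (D.simple i)) : Out C i j k (C.w i r) σ a' b' := by
  have hne := out_ne C hi hk h.lt hki h.ne
  refine ⟨(C.w_lt i hi r h.lt).1, ?_, ?_, ?_, ?_⟩
  · rw [C.cf_w i hi r h.lt k hk, if_neg hki, sub_zero]; exact h.ne
  · rw [sgnR_w C hi h.lt hne.1 hne.2]; exact h.sgn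
  · rw [C.cartan_w_self hi h.lt, mul_neg, h.ci, ea]
  · rw [C.cartan_w hi hj h.lt, mul_sub, h.cj, ← mul_assoc, h.ci, eb]

end Cfsg.Agent.H38.CT
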