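/-
Root elements for all roots in the Curtis–Tits group, and the action of the fundamental monomial
elements on them.
-/
import Cfsg.Agent.H38.CT.Descent

set_option autoImplicit false

namespace Cfsg.Agent.H38.CT

open Cfsg.Lie Cfsg.Lie.ChevalleyDatum Cfsg.Agent.Chevalley

variable {D : ChevalleyDatum} (C : Cert D) {K : Type*} [Field K]

open Classical in
/-- the root elements, extended to all roots by conjugation -/
noncomputable def Y (r : ℕ) (t : K) : D.CurtisTitsGroup K :=
  if Small C r then X K r t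
  else if h : ∃ i, Dn i r (D := D) then
    cn K h.choose * Y (C.w h.choose r) ((C.sg h.choose (C.w h.choose r) : K) * t) * (cn K h.choose)⁻¹
  else 1
termination_by (ht C r).natAbs
decreasing_by exact dn_lt C h.choose_spec

theorem Y_small {r : ℕ} (h : Small C r) (t : K) : Y C r t = X K r t := by
  rw [Y, if_pos h]

theorem pm_small {r : ℕ} (h : PmSimple D r) : Small C r := by
  obtain ⟨i, hi, rfl | rfl⟩ := h
  · exact ⟨i, i, two_simple C hi hi⟩
  · exact ⟨i, i, two_neg C (two_simple C hi hi)⟩

theorem Y_large {r : ℕ} (hr : r < D.nroots) (h : ¬ Small C r) :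
    ∃ j, Dn j r (D := D) ∧ ∀ t : K, Y C r t =
      cn K j * Y C (C.w j r) ((C.sg j (C.w j r) : K) * t) * (cn K j)⁻¹ := by
  have h' := exists_dn C hr (fun e => h (pm_small C e))
  refine ⟨h'.choose, h'.choose_spec, fun t => ?_⟩
  rw [Y, if_neg h, dif_pos h']

variable (hk : Chk C)
include hk

theorem toGL_Y : ∀ {r : ℕ}, r < D.nroots → ∀ t : K, toGL K C hk (Y C r t) = C.xU K r t := by
  intro r
  induction hn : (ht C r).natAbs using Nat.strong_induction_on generalizing r with
  | _ n ih =>
    subst hn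
    intro hr t
    by_cases h : Small C r
    · rw [Y_small C h, toGL_X C hk h]
    · obtain ⟨j, hj, e⟩ := Y_large C (K := K) hr h
      rw [e, map_mul, map_mul, map_inv, toGL_cn C hk hj.2.1,
        ih _ (dn_lt C hj) rfl (C.w_lt j hj.2.1 r hr).1, C.nS_conj_xU K hj.2.1
          (C.w_lt j hj.2.1 r hr).1, (C.w_lt j hj.2.1 r hr).2, ← mul_assoc, ← Int.cast_mul,
        C.sg_sq, Int.cast_one, one_mul]

theorem Y_add : ∀ {r : ℕ}, r < D.nroots → ∀ t u : K, Y C r t * Y C r u = Y C r (t + u) := by
  intro r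
  induction hn : (ht C r).natAbs using Nat.strong_induction_on generalizing r with
  | _ n ih =>
    subst hn
    intro hr t u
    by_cases h : Small C r
    · obtain ⟨i, j, h'⟩ := h
      simp only [Y_small C ⟨i, j, h'⟩]
      exact X_add C hk h' t u
    · obtain ⟨j, hj, e⟩ := Y_large C (K := K) hr h
      rw [e, e, e, mul_add, ← ih _ (dn_lt C hj) rfl (C.w_lt j hj.2.1 r hr).1]
      group

omit hk in
/-- `g` carries the root elements of `r` to those of `r'`, up to sign -/
def Maps (g : D.CurtisTitsGroup K) (r r' : ℕ) : Prop :=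
  ∃ e : K, e * e = 1 ∧ ∀ t, g * Y C r t * g⁻¹ = Y C r' (e * t)

omit hk in
theorem Maps.comp {g g' : D.CurtisTitsGroup K} {r r' r'' : ℕ} (h : Maps C g r r')
    (h' : Maps C g' r' r'') : Maps C (g' * g) r r'' := by
  obtain ⟨e, he, hg⟩ := h
  obtain ⟨e', he', hg'⟩ := h'
  refine ⟨e' * e, by linear_combination (e * e) * he' + he, fun t => ?_⟩
  rw [mul_assoc e', ← hg', ← hg]
  group

omit hk in
theorem Maps.inv {g : D.CurtisTitsGroup K} {r r' : ℕ} (h : Maps C g r r') :
    Maps C g⁻¹ r' r := by
  obtain ⟨e, he, hg⟩ := h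
  refine ⟨e, he, fun t => ?_⟩
  have := hg (e * t)
  rw [← mul_assoc e, he, one_mul] at this
  rw [← this]
  group

omit hk in
theorem Maps.congr {g g' : D.CurtisTitsGroup K} {r r' : ℕ} (h : Maps C g r r') (e : g = g') :
    Maps C g' r r' := e ▸ h

omit hk in
theorem Maps.transfer {g g' x : D.CurtisTitsGroup K} {r₀ r₁ r : ℕ} (h₁ : Maps C g r₀ r₁)
    (h : Maps C g' r₀ r) (e : g' = x * g) : Maps C x r₁ r :=
  ((h₁.inv).comp C h).congr C (by rw [e, mul_inv_cancel_right])

omit hk in
theorem Maps.conj {g c x : D.CurtisTitsGroup K} {r₀ r : ℕ} (hg : Maps C g r₀ r)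
    (hc : Maps C c r₀ r₀) (e : x * g = g * c) : Maps C x r r :=
  hg.transfer C (hc.comp C hg) e.symm

/-- the action on small roots -/
theorem maps_two {i j r : ℕ} (h : Two C i j r) : Maps C (cn (D := D) K i) r (C.w i r) := by
  refine ⟨(C.sg i r : K), by rw [← Int.cast_mul, C.sg_sq, Int.cast_one], fun t => ?_⟩
  rw [Y_small C ⟨i, j, h⟩, Y_small C ⟨i, j, (two_w C h).1⟩]
  exact X_conj C hk h t

theorem maps_pm {i r : ℕ} (hi : i < D.rank) (h : PmSimple D r) :
    Maps C (cn (D := D) K i) r (C.w i r) := by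
  obtain ⟨a, ha, rfl | rfl⟩ := h
  · exact maps_two C hk (two_simple' C hi ha)
  · exact maps_two C hk (two_neg C (two_simple' C hi ha))

omit hk in
theorem w_fix {i r : ℕ} (hi : i < D.rank) (hr : r < D.nroots) (h : D.cartan i r = 0) :
    C.w i r = r := by
  refine C.eq_of_cf (C.w_lt i hi r hr).1 hr fun k hk => ?_
  rw [C.cf_w i hi r hr k hk, h, ite_self, sub_zero]

omit hk in
theorem exists_out {i j r : ℕ} (hi : i < D.rank) (hj : j < D.rank) (hr : r < D.nroots)
    (h : ¬ Two C i j r) : ∃ k < D.rank, k ≠ i ∧ k ≠ j ∧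
      Out C i j k r (sgnR D r) (sgnR D r * D.cartan i r) (sgnR D r * D.cartan j r) := by
  by_contra h'
  push Not at h'
  refine h ⟨hr, hi, hj, fun k hk a b => ?_⟩
  by_contra hne
  exact h' k hk a b ⟨hr, hne, rfl, rfl, rfl⟩

/-- descending reflections -/
theorem maps_desc : ∀ {r i : ℕ}, Dn i r (D := D) →
    Maps C (cn (D := D) K i) (C.w i r) r := by
  intro r
  induction hn : (ht C r).natAbs using Nat.strong_induction_on generalizing r with
  | _ n ih =>
    subst hn
    intro i hd
    have hr := hd.1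
    have hi := hd.2.1
    have hwr := C.w_lt i hi r hr
    by_cases h : Small C r
    · obtain ⟨a, b, hab⟩ := h
      have hTi : ∃ j, Two C i j r := by
        rcases dn_two C hk hab hd with rfl | rfl
        · exact ⟨b, hab⟩
        · exact ⟨a, two_symm C hab⟩
      obtain ⟨j, hT⟩ := hTi
      have := maps_two C hk (K := K) (two_w C hT).1
      rwa [hwr.2] at this
    · obtain ⟨j, hjd, e⟩ := Y_large C (K := K) hr h
      have hj := hjd.2.1
      have base : Maps C (cn (D := D) K j) (C.w j r) r := by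
        refine ⟨(C.sg j (C.w j r) : K), by rw [← Int.cast_mul, C.sg_sq, Int.cast_one], fun t => ?_⟩
        rw [e, ← mul_assoc, ← Int.cast_mul, C.sg_sq, Int.cast_one, one_mul]
      by_cases hij : i = j
      · subst hij; exact base
      obtain ⟨k, hkr, hki, hkj, ho⟩ := exists_out C hi hj hr (fun hT => h ⟨i, j, hT⟩)
      set σ := sgnR D r
      set a := σ * D.cartan i r
      set b := σ * D.cartan j r
      have ha : 0 < a := hd.2.2.2.2
      have hb : 0 < b := hjd.2.2.2.2
      have l₁ := dn_lt C hd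
      have l₁' := dn_lt C hjd
      have hwr' := C.w_lt j hj r hr
      rcases hk.pair i hi j hj hij with ⟨hA, hB, -⟩ | ⟨hA, hB, -⟩ | ⟨hAB, -⟩
      · have o₁ : Out C i j k (C.w i r) σ (-a) b :=
          ho.step hi hj hkr hki rfl (by rw [hB]; ring)
        have o₁' : Out C i j k (C.w j r) σ a (-b) :=
          (ho.symm.step hj hi hkr hkj rfl (by rw [hA]; ring)).symm
        have d₁ : Dn j (C.w i r) (D := D) := o₁.symm.dn hj hkr hkj hb
        have d₁' : Dn i (C.w j r) (D := D) := o₁'.dn hi hkr hki ha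
        have m₁ := ih _ l₁ rfl d₁
        have m₁' := ih _ l₁' rfl d₁'
        have e₀ : C.w j (C.w i r) = C.w i (C.w j r) := by
          refine C.eq_of_cf (C.w_lt j hj _ hwr.1).1 (C.w_lt i hi _ hwr'.1).1 fun m hm => ?_
          rw [C.cf_w j hj _ hwr.1 m hm, C.cf_w i hi _ hwr'.1 m hm, C.cartan_w hi hj hr,
            C.cartan_w hj hi hr, C.cf_w i hi r hr m hm, C.cf_w j hj r hr m hm, hA, hB]
          split <;> split <;> omega
        rw [e₀] at m₁
        exact m₁.transfer C (m₁'.comp C base) (braid_two C hk hi hj hij hA).symm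
      · have o₁ : Out C i j k (C.w i r) σ (-a) (a + b) :=
          ho.step hi hj hkr hki rfl (by rw [hB]; ring)
        have o₁' : Out C i j k (C.w j r) σ (a + b) (-b) :=
          (ho.symm.step hj hi hkr hkj rfl (by rw [hA]; ring)).symm
        have d₁ : Dn j (C.w i r) (D := D) := o₁.symm.dn hj hkr hkj (by omega)
        have d₁' : Dn i (C.w j r) (D := D) := o₁'.dn hi hkr hki (by omega)
        have o₂ : Out C i j k (C.w j (C.w i r)) σ b (-(a + b)) :=
          (o₁.symm.step hj hi hkr hkj rfl (by rw [hA]; ring)).symm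
        have o₂' : Out C i j k (C.w i (C.w j r)) σ (-(a + b)) a :=
          o₁'.step hi hj hkr hki rfl (by rw [hB]; ring)
        have d₂ : Dn i (C.w j (C.w i r)) (D := D) := o₂.dn hi hkr hki hb
        have d₂' : Dn j (C.w i (C.w j r)) (D := D) := o₂'.symm.dn hj hkr hkj ha
        have l₂ := dn_lt C d₁
        have l₂' := dn_lt C d₁'
        have m₁ := ih _ l₁ rfl d₁
        have m₁' := ih _ l₁' rfl d₁'
        have m₂ := ih _ (lt_trans l₂ l₁) rfl d₂
        have m₂' := ih _ (lt_trans l₂' l₁') rfl d₂'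
        have e₀ : C.w i (C.w j (C.w i r)) = C.w j (C.w i (C.w j r)) := by
          refine C.eq_of_cf (C.w_lt i hi _ d₂.1).1 (C.w_lt j hj _ d₂'.1).1 fun m hm => ?_
          rw [C.cf_w i hi _ d₂.1 m hm, C.cf_w j hj _ d₂'.1 m hm, C.cartan_w hj hi hwr.1,
            C.cartan_w hi hj hwr'.1, C.cartan_w_self hi hr, C.cartan_w_self hj hr,
            C.cf_w j hj _ hwr.1 m hm, C.cf_w i hi _ hwr'.1 m hm, C.cartan_w hi hj hr,
            C.cartan_w hj hi hr, C.cf_w i hi r hr m hm, C.cf_w j hj r hr m hm, hA, hB]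
          split <;> split <;> omega
        rw [e₀] at m₂
        refine (m₂.comp C m₁).transfer C ((m₂'.comp C m₁').comp C base) ?_
        rw [← mul_assoc, ← mul_assoc, braid_three C hk hi hj hij hA hB]
      · set A := D.cartan i (D.simple j) with hA
        set B := D.cartan j (D.simple i) with hB
        have hAB2 : A * B = 2 := by rcases hAB with ⟨x, y⟩ | ⟨x, y⟩ <;> rw [x, y] <;> norm_num
        have hAneg : A ≤ -1 ∧ B ≤ -1 := by rcases hAB with ⟨x, y⟩ | ⟨x, y⟩ <;> omega
        have hc : 0 < b - a * B := by nlinarith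
        have hc' : 0 < a - b * A := by nlinarith
        have o₁ : Out C i j k (C.w i r) σ (-a) (b - a * B) :=
          ho.step hi hj hkr hki rfl (by rw [← hB])
        have o₁' : Out C i j k (C.w j r) σ (a - b * A) (-b) :=
          (ho.symm.step hj hi hkr hkj rfl (by rw [← hA])).symm
        have o₂ : Out C i j k (C.w j (C.w i r)) σ (a - b * A) (-(b - a * B)) :=
          (o₁.symm.step hj hi hkr hkj rfl (by rw [← hA]; linear_combination (-a) * hAB2)).symm
        have o₂' : Out C i j k (C.w i (C.w j r)) σ (-(a - b * A)) (b - a * B) :=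
          o₁'.step hi hj hkr hki rfl (by rw [← hB]; linear_combination (-b) * hAB2)
        have o₃ : Out C i j k (C.w i (C.w j (C.w i r))) σ (-(a - b * A)) b :=
          o₂.step hi hj hkr hki rfl (by rw [← hB]; linear_combination (-b) * hAB2)
        have o₃' : Out C i j k (C.w j (C.w i (C.w j r))) σ a (-(b - a * B)) :=
          (o₂'.symm.step hj hi hkr hkj rfl (by rw [← hA]; linear_combination (-a) * hAB2)).symm
        have d₁ : Dn j (C.w i r) (D := D) := o₁.symm.dn hj hkr hkj hc
        have d₁' : Dn i (C.w j r) (D := D) := o₁'.dn hi hkr hki hc'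
        have d₂ : Dn i (C.w j (C.w i r)) (D := D) := o₂.dn hi hkr hki hc'
        have d₂' : Dn j (C.w i (C.w j r)) (D := D) := o₂'.symm.dn hj hkr hkj hc
        have d₃ : Dn j (C.w i (C.w j (C.w i r))) (D := D) := o₃.symm.dn hj hkr hkj hb
        have d₃' : Dn i (C.w j (C.w i (C.w j r))) (D := D) := o₃'.dn hi hkr hki ha
        have l₂ := lt_trans (dn_lt C d₁) l₁
        have l₂' := lt_trans (dn_lt C d₁') l₁'
        have m₁ := ih _ l₁ rfl d₁
        have m₁' := ih _ l₁' rfl d₁'
        have m₂ := ih _ l₂ rfl d₂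
        have m₂' := ih _ l₂' rfl d₂'
        have m₃ := ih _ (lt_trans (dn_lt C d₂) l₂) rfl d₃
        have m₃' := ih _ (lt_trans (dn_lt C d₂') l₂') rfl d₃'
        have e₀ : C.w j (C.w i (C.w j (C.w i r))) = C.w i (C.w j (C.w i (C.w j r))) := by
          refine C.eq_of_cf (C.w_lt j hj _ d₃.1).1 (C.w_lt i hi _ d₃'.1).1 fun m hm => ?_
          rw [C.cf_w j hj _ d₃.1 m hm, C.cf_w i hi _ d₃'.1 m hm, C.cartan_w hi hj d₂.1,
            C.cartan_w hj hi d₂'.1, C.cartan_w_self hj hwr.1, C.cartan_w_self hi hwr'.1,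
            C.cf_w i hi _ d₂.1 m hm, C.cf_w j hj _ d₂'.1 m hm, C.cartan_w hj hi hwr.1,
            C.cartan_w hi hj hwr'.1, C.cartan_w_self hi hr, C.cartan_w_self hj hr,
            C.cf_w j hj _ hwr.1 m hm, C.cf_w i hi _ hwr'.1 m hm, C.cartan_w hi hj hr,
            C.cartan_w hj hi hr, C.cf_w i hi r hr m hm, C.cf_w j hj r hr m hm, ← hA, ← hB]
          rcases hAB with ⟨x, y⟩ | ⟨x, y⟩ <;> rw [x, y] <;> split <;> split <;> omega
        rw [e₀] at m₃
        refine ((m₃.comp C m₂).comp C m₁).transfer C (((m₃'.comp C m₂').comp C m₁').comp C base) ?_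
        simp only [← mul_assoc]
        exact (braid_four C hk hi hj hij hAB).symm

/-- squares of the monomial elements -/
theorem maps_sq : ∀ {r : ℕ}, r < D.nroots → ∀ {i : ℕ}, i < D.rank →
    Maps C (cn (D := D) K i * cn K i) r r := by
  intro r
  induction hn : (ht C r).natAbs using Nat.strong_induction_on generalizing r with
  | _ n ih =>
    subst hn
    intro hr i hi
    by_cases hp : PmSimple D r
    · obtain ⟨a, ha, hra⟩ := hp
      have hT : Two C i a r := by
        rcases hra with rfl | rfl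
        · exact two_simple' C hi ha
        · exact two_neg C (two_simple' C hi ha)
      have h1 := maps_two C hk (K := K) hT
      have h2 := maps_two C hk (K := K) (two_w C hT).1
      rw [(C.w_lt i hi r hr).2] at h2
      exact h1.comp C h2
    · obtain ⟨j, hd⟩ := exists_dn C hr hp
      have hj := hd.2.1
      have hm := maps_desc C hk (K := K) hd
      have hw := (C.w_lt j hj r hr).1
      have hI := fun {m : ℕ} (hm : m < D.rank) => ih _ (dn_lt C hd) rfl hw (i := m) hm
      by_cases hij : i = j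
      · subst hij
        exact hm.conj C (hI hi) (by group)
      rcases sq_conj C hk (K := K) hi hj hij with e | e
      · exact hm.conj C (hI hi) e
      · refine hm.conj C ?_ e
        exact ((hI hi).comp C ((hI hj).inv C)).congr C (by group)

/-- reflections orthogonal to a root -/
theorem maps_zero : ∀ {r : ℕ}, r < D.nroots → ∀ {i : ℕ}, i < D.rank → D.cartan i r = 0 →
    Maps C (cn (D := D) K i) r r := by
  intro r
  induction hn : (ht C r).natAbs using Nat.strong_induction_on generalizing r with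
  | _ n ih =>
    subst hn
    intro hr i hi h0
    have hfix := w_fix C hi hr h0
    by_cases hp : PmSimple D r
    · have := maps_pm C hk (K := K) hi hp
      rwa [hfix] at this
    obtain ⟨j, hd⟩ := exists_dn C hr hp
    have hj := hd.2.1
    by_cases hT : Two C i j r
    · have := maps_two C hk (K := K) hT
      rwa [hfix] at this
    have hij : i ≠ j := by
      rintro rfl
      have := hd.2.2.2.2
      rw [h0, mul_zero] at this
      omega
    obtain ⟨k, hkr, hki, hkj, ho⟩ := exists_out C hi hj hr hT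
    set σ := sgnR D r
    set b := σ * D.cartan j r
    rw [h0, mul_zero] at ho
    have hb : 0 < b := hd.2.2.2.2
    have m₁ := maps_desc C hk (K := K) hd
    have l₁ := dn_lt C hd
    have hσ : σ ≠ 0 := by rcases sgnR_cases (D := D) r with e | e <;> omega
    have hw := (C.w_lt j hj r hr).1
    rcases hk.pair i hi j hj hij with ⟨hA, hB, -⟩ | ⟨hA, hB, -⟩ | ⟨hAB, -⟩
    · have o₁ : Out C i j k (C.w j r) σ 0 (-b) :=
        (ho.symm.step hj hi hkr hkj rfl (by rw [hA]; ring)).symm
      have hz : D.cartan i (C.w j r) = 0 := (mul_eq_zero.1 o₁.ci).resolve_left hσ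
      exact m₁.conj C (ih _ l₁ rfl hw hi hz) (braid_two C hk hi hj hij hA)
    · have o₁ : Out C i j k (C.w j r) σ b (-b) :=
        (ho.symm.step hj hi hkr hkj rfl (by rw [hA]; ring)).symm
      have d₁ : Dn i (C.w j r) (D := D) := o₁.dn hi hkr hki hb
      have o₂ : Out C i j k (C.w i (C.w j r)) σ (-b) 0 :=
        o₁.step hi hj hkr hki rfl (by rw [hB]; ring)
      have hz : D.cartan j (C.w i (C.w j r)) = 0 := (mul_eq_zero.1 o₂.cj).resolve_left hσ
      refine ((maps_desc C hk (K := K) d₁).comp C m₁).conj C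
        (ih _ (lt_trans (dn_lt C d₁) l₁) rfl o₂.lt hj hz) ?_
      rw [← mul_assoc, ← braid_three C hk hi hj hij hA hB]
    · set A := D.cartan i (D.simple j) with hA
      set B := D.cartan j (D.simple i) with hB
      have hAB2 : A * B = 2 := by rcases hAB with ⟨x, y⟩ | ⟨x, y⟩ <;> rw [x, y] <;> norm_num
      have hAneg : A ≤ -1 := by rcases hAB with ⟨x, y⟩ | ⟨x, y⟩ <;> omega
      have o₁ : Out C i j k (C.w j r) σ (-(b * A)) (-b) :=
        (ho.symm.step hj hi hkr hkj rfl (by rw [← hA]; ring)).symm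
      have d₁ : Dn i (C.w j r) (D := D) := o₁.dn hi hkr hki (by nlinarith)
      have o₂ : Out C i j k (C.w i (C.w j r)) σ (b * A) b :=
        o₁.step hi hj hkr hki (by ring) (by rw [← hB]; linear_combination (-b) * hAB2)
      have d₂ : Dn j (C.w i (C.w j r)) (D := D) := o₂.symm.dn hj hkr hkj hb
      have o₃ : Out C i j k (C.w j (C.w i (C.w j r))) σ 0 (-b) :=
        (o₂.symm.step hj hi hkr hkj rfl (by rw [← hA]; ring)).symm
      have hz : D.cartan i (C.w j (C.w i (C.w j r))) = 0 :=
        (mul_eq_zero.1 o₃.ci).resolve_left hσ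
      have l₂ := lt_trans (dn_lt C d₁) l₁
      refine (((maps_desc C hk (K := K) d₂).comp C (maps_desc C hk (K := K) d₁)).comp C m₁).conj C
        (ih _ (lt_trans (dn_lt C d₂) l₂) rfl o₃.lt hi hz) ?_
      simp only [← mul_assoc]
      exact braid_four C hk hi hj hij hAB

/-- every fundamental monomial element permutes the root elements as the reflection does -/
theorem maps_all {r i : ℕ} (hr : r < D.nroots) (hi : i < D.rank) :
    Maps C (cn (D := D) K i) r (C.w i r) := by
  by_cases h : r = D.simple i ∨ r = D.neg (D.simple i)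
  · exact maps_pm C hk hi ⟨i, hi, h⟩
  push Not at h
  rcases lt_trichotomy (sgnR D r * D.cartan i r) 0 with hc | hc | hc
  · have hw := C.w_lt i hi r hr
    have hne : C.w i r ≠ D.simple i ∧ C.w i r ≠ D.neg (D.simple i) := by
      have hp := (C.simple_lt i hi).1
      constructor <;> intro e
      · refine h.2 ?_
        rw [← hw.2, e, w_simple C hi]
      · refine h.1 ?_
        rw [← hw.2, e, C.w_neg hi hp, w_simple C hi, C.neg_neg hp]
    have hd : Dn i (C.w i r) (D := D) := by
      refine ⟨hw.1, hi, hne.1, hne.2, ?_⟩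
      rw [sgnR_w C hi hr h.1 h.2, C.cartan_w_self hi hr]
      linarith
    have := maps_desc C hk (K := K) hd
    rwa [hw.2] at this
  · have h0 : D.cartan i r = 0 := (mul_eq_zero.1 hc).resolve_left
      (by rcases sgnR_cases (D := D) r with e | e <;> omega)
    rw [w_fix C hi hr h0]
    exact maps_zero C hk hr hi h0
  · have hm := maps_desc C hk (K := K) (r := r) (i := i) ⟨hr, hi, h.1, h.2, hc⟩
    exact (((maps_sq C hk hr hi).comp C (hm.inv C))).congr C (inv_mul_cancel_left _ _)

/-- conjugation of all root elements by the fundamental monomial elements -/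
theorem Y_conj {r i : ℕ} (hr : r < D.nroots) (hi : i < D.rank) (t : K) :
    cn K i * Y C r t * (cn K i)⁻¹ = Y C (C.w i r) ((C.sg i r : K) * t) := by
  obtain ⟨e, -, he⟩ := maps_all C hk (K := K) hr hi
  rw [he]
  have h := congrArg (toGL K C hk) (he t)
  have hw := (C.w_lt i hi r hr).1
  rw [map_mul, map_mul, map_inv, toGL_cn C hk hi, toGL_Y C hk hr, toGL_Y C hk hw,
    C.nS_conj_xU K hi hr] at h
  have h2 : C.xU K (C.w i r) ((C.sg i r : K) * t - e * t) = 1 := by
    rw [sub_eq_add_neg, ← C.xU_add, ← C.xU_inv, h, mul_inv_cancel]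
  rw [C.xU_eq_one_iff K hw, sub_eq_zero] at h2
  rw [h2]

end Cfsg.Agent.H38.CT
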