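/-
The Curtis–Tits presentation defines the same group as Steinberg's.
-/
import Cfsg.Agent.H38.CT.Action

set_option autoImplicit false

namespace Cfsg.Agent.H38.CT

open Cfsg.Lie Cfsg.Lie.ChevalleyDatum Cfsg.Agent.Chevalley

variable {D : ChevalleyDatum} (C : Cert D) {K : Type*} [Field K]

/-- `n_r(t)` for all roots -/
noncomputable def Yn (r : ℕ) (t : K) : D.CurtisTitsGroup K :=
  Y C r t * Y C (D.neg r) (-t⁻¹) * Y C r t

/-- `h_r(t)` for all roots -/
noncomputable def Yh (r : ℕ) (t : K) : D.CurtisTitsGroup K := Yn C r t * Yn C r (-1)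

theorem hWord_prod {G : Type*} [Group G] (g : ℕ → K → G) (r : ℕ) (t : K) :
    ((D.hWord r t).map fun p => g p.1 p.2).prod =
      (g r t * g (D.neg r) (-t⁻¹) * g r t) * (g r (-1) * g (D.neg r) (-(-1 : K)⁻¹) * g r (-1)) := by
  simp [hWord, nWord, mul_assoc]

variable (hk : Chk C)
include hk

theorem Y_inv {r : ℕ} (hr : r < D.nroots) (t : K) : (Y C r t)⁻¹ = Y C r (-t) := by
  have h0 : Y C r (0 : K) = 1 := by
    have := Y_add C hk hr (0 : K) 0
    rw [add_zero] at this
    exact mul_eq_left.1 this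
  refine inv_eq_of_mul_eq_one_right ?_
  rw [Y_add C hk hr, add_neg_cancel, h0]

theorem Yn_inv {r : ℕ} (hr : r < D.nroots) (t : K) : (Yn C r t)⁻¹ = Yn C r (-t) := by
  simp only [Yn, mul_inv_rev, Y_inv C hk hr, Y_inv C hk (C.neg_lt hr), inv_neg, _root_.neg_neg,
    mul_assoc]

theorem Yh_one {r : ℕ} (hr : r < D.nroots) : Yh C r (1 : K) = 1 := by
  rw [Yh, ← Yn_inv C hk hr, mul_inv_cancel]

theorem Yn_conj {i r : ℕ} (hi : i < D.rank) (hr : r < D.nroots) (t : K) :
    cn K i * Yn C r t * (cn K i)⁻¹ = Yn C (C.w i r) ((C.sg i r : K) * t) := by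
  have e : (C.sg i (D.neg r) : K) * -t⁻¹ = -((C.sg i r : K) * t)⁻¹ := by
    rw [C.sg_neg hi hr]
    rcases C.sg_pm i r with h | h <;> simp [h, inv_neg]
  have a := Y_conj C hk hr hi t
  have b := Y_conj C hk (C.neg_lt hr) hi (-t⁻¹)
  rw [C.w_neg hi hr, e] at b
  calc cn K i * Yn C r t * (cn K i)⁻¹
      = (cn K i * Y C r t * (cn K i)⁻¹) * (cn K i * Y C (D.neg r) (-t⁻¹) * (cn K i)⁻¹) *
          (cn K i * Y C r t * (cn K i)⁻¹) := by rw [Yn]; group
    _ = _ := by rw [a, b]; rfl

/-- the torus relation for all roots -/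
theorem Yh_mul : ∀ {r : ℕ}, r < D.nroots → ∀ t u : K, t ≠ 0 → u ≠ 0 →
    Yh C r t * Yh C r u = Yh C r (t * u) := by
  refine fun {r} hr => C.root_induction
    (P := fun r => ∀ t u : K, t ≠ 0 → u ≠ 0 → Yh C r t * Yh C r u = Yh C r (t * u)) ?_ ?_ r hr
  · intro a ha t u ht hu
    have hS : Small C (D.simple a) := ⟨a, a, two_simple C ha ha⟩
    have h := X_hMul C hk (K := K) hS t u ht hu
    have e : ∀ t : K, Yh C (D.simple a) t =
        ((D.hWord (D.simple a) t).map fun p => X (D := D) K p.1 p.2).prod := by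
      intro t
      rw [hWord_prod]
      simp only [Yh, Yn, Y_small C hS, Y_small C ⟨a, a, two_neg C (two_simple C ha ha)⟩]
    rw [e, e, e]
    exact h
  · intro i hi r hr ih
    have hw := (C.w_lt i hi r hr).1
    have key : ∀ t : K, t ≠ 0 → Yh C (C.w i r) t = cn K i * Yh C r t * (cn K i)⁻¹ := by
      intro t ht
      have P : ∀ s : K, cn K i * Yh C r s * (cn K i)⁻¹ =
          Yn C (C.w i r) ((C.sg i r : K) * s) * Yn C (C.w i r) ((C.sg i r : K) * -1) := fun s => by
        rw [← Yn_conj C hk hi hr, ← Yn_conj C hk hi hr, Yh]; group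
      rcases C.sg_pm i r with e | e
      · rw [P, e, Int.cast_one, one_mul, one_mul]; rfl
      · have hm : ∀ s u : K, s ≠ 0 → u ≠ 0 →
            cn K i * Yh C r (s * u) * (cn K i)⁻¹ =
              (cn K i * Yh C r s * (cn K i)⁻¹) * (cn K i * Yh C r u * (cn K i)⁻¹) := fun s u hs hu => by
          rw [← ih s u hs hu]; group
        have hne : (-1 : K) ≠ 0 := neg_ne_zero.2 one_ne_zero
        have h3 := hm (-1) (-1) hne hne
        rw [show (-1 : K) * -1 = 1 by ring, Yh_one C hk hr, mul_one, mul_inv_cancel, P, e,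
          Int.cast_neg, Int.cast_one, show (-1 : K) * -1 = 1 by ring] at h3
        have h2 := hm (t * -1) (-1) (mul_ne_zero ht hne) hne
        rw [show t * -1 * -1 = t by ring] at h2
        rw [h2, P, P, e, Int.cast_neg, Int.cast_one]
        rw [show (-1 : K) * (t * -1) = t by ring, show (-1 : K) * -1 = 1 by ring, Yh,
          ← Yn_inv C hk hw (1 : K)]
        calc Yn C (C.w i r) t * (Yn C (C.w i r) (1 : K))⁻¹
            = Yn C (C.w i r) t * (Yn C (C.w i r) (1 : K))⁻¹ * 1 := (mul_one _).symm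
          _ = _ := by rw [h3]; group
    intro t u ht hu
    rw [key t ht, key u hu, key _ (mul_ne_zero ht hu), ← ih t u ht hu]
    group

omit hk in
/-- the commutator relation at a pair of roots -/
def Rel (r s : ℕ) : Prop :=
  ∀ t u : K, (Y C s u)⁻¹ * (Y C r t)⁻¹ * Y C s u * Y C r t =
    ((D.commWord K r s t u).map fun p => Y C p.1 p.2).prod

theorem rel_step {i r s : ℕ} (hi : i < D.rank) (hr : r < D.nroots) (hs : s < D.nroots)
    (h : Rel (K := K) C (C.w i r) (C.w i s)) : Rel (K := K) C r s := by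
  intro t u
  have h' := h ((C.sg i r : K) * t) ((C.sg i s : K) * u)
  rw [← Y_conj C hk hr hi, ← Y_conj C hk hs hi] at h'
  have e : ((D.commWord K (C.w i r) (C.w i s) ((C.sg i r : K) * t) ((C.sg i s : K) * u)).map
      fun p => Y C p.1 p.2).prod =
      cn K i * ((D.commWord K r s t u).map fun p => Y C p.1 p.2).prod * (cn K i)⁻¹ := by
    have hw : D.commWord K (C.w i r) (C.w i s) ((C.sg i r : K) * t) ((C.sg i s : K) * u) =
        (D.commWord K r s t u).map fun p => (C.w i p.1, (C.sg i p.1 : K) * p.2) :=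
      C.commW_w K hi hr hs t u
    have hb : ∀ p ∈ D.commWord K r s t u, p.1 < D.nroots := by
      intro p hp
      simp only [commWord, List.mem_map] at hp
      obtain ⟨c, hc, rfl⟩ := hp
      exact (C.commTerms_cf hc).1.1
    rw [hw]
    generalize D.commWord K r s t u = L at hb ⊢
    induction L with
    | nil => simp
    | cons p L ih =>
      simp only [List.map_cons, List.prod_cons, List.map_map] at ih ⊢
      rw [ih fun q hq => hb q (by simp [hq]), ← Y_conj C hk (hb p (by simp)) hi]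
      group
  rw [e] at h'
  apply mul_left_cancel (a := cn K i)
  apply mul_right_cancel (b := (cn K i)⁻¹)
  rw [← h']
  group

theorem rel_two {i j r s : ℕ} (hr : Two C i j r) (hs : Two C i j s) (h1 : s ≠ r)
    (h2 : s ≠ D.neg r) : Rel (K := K) C r s := by
  intro t u
  rw [Y_small C ⟨i, j, hr⟩, Y_small C ⟨i, j, hs⟩, X_comm C hk hr hs h1 h2]
  congr 1
  refine List.map_congr_left fun p hp => ?_
  simp only [commWord, List.mem_map] at hp
  obtain ⟨c, hc, rfl⟩ := hp
  rw [Y_small C ⟨i, j, two_comm C hr hs c hc⟩]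

theorem rel_word : ∀ (L : List ℕ), (∀ i ∈ L, i < D.rank) → ∀ r s, r < D.nroots → s < D.nroots →
    s ≠ r → s ≠ D.neg r →
    (actW C.w L r < D.nroots ∧ actW C.w L s < D.nroots ∧ actW C.w L s ≠ actW C.w L r ∧
      actW C.w L s ≠ D.neg (actW C.w L r)) ∧
    (Rel (K := K) C (actW C.w L r) (actW C.w L s) → Rel (K := K) C r s) := by
  intro L
  induction L with
  | nil => intro _ r s hr hs h1 h2; exact ⟨⟨hr, hs, h1, h2⟩, id⟩
  | cons i L ih =>
    intro hL r s hr hs h1 h2
    have hi := hL i (by simp)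
    obtain ⟨⟨ar, as, a1, a2⟩, himp⟩ := ih (fun k hk => hL k (by simp [hk])) r s hr hs h1 h2
    show (C.w i (actW C.w L r) < D.nroots ∧ _) ∧ _
    refine ⟨⟨(C.w_lt i hi _ ar).1, (C.w_lt i hi _ as).1, fun e => a1 (C.w_inj hi as ar e),
      fun e => a2 (C.w_inj hi as (C.neg_lt ar) (by rw [C.w_neg hi ar]; exact e))⟩,
      fun h => himp (rel_step C hk hi ar as h)⟩

/-- the commutator relation for all pairs -/
theorem rel_all {r s : ℕ} (hr : r < D.nroots) (hs : s < D.nroots) (h1 : s ≠ r)
    (h2 : s ≠ D.neg r) : Rel (K := K) C r s := by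
  suffices h : ∀ m r s, (D.nroots - r) * (D.nroots + 1) + (D.nroots - s) ≤ m → r < D.nroots →
      s < D.nroots → s ≠ r → s ≠ D.neg r → Rel (K := K) C r s from h _ r s le_rfl hr hs h1 h2
  intro m
  induction m with
  | zero =>
    intro r s hm hr hs
    have : 0 < (D.nroots - r) * (D.nroots + 1) := Nat.mul_pos (by omega) (by omega)
    omega
  | succ m ih =>
    intro r s hm hr hs h1 h2
    have hneg : ∀ {i}, i < D.rank → C.w i s ≠ C.w i r ∧ C.w i s ≠ D.neg (C.w i r) := fun {i} hi =>
      ⟨fun e => h1 (C.w_inj hi hs hr e),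
        fun e => h2 (C.w_inj hi hs (C.neg_lt hr) (by rw [C.w_neg hi hr]; exact e))⟩
    by_cases htop : ∀ i < D.rank, ¬ r < C.w i r
    · by_cases hstab : ∀ i < D.rank, C.w i r = r → ¬ s < C.w i s
      · obtain ⟨L, hL, a, b, hTr, hTs⟩ := hk.trans r hr htop s hs h1 h2 hstab
        obtain ⟨⟨-, -, a1, a2⟩, himp⟩ := rel_word C hk (K := K) L hL r s hr hs h1 h2
        exact himp (rel_two C hk hTr hTs a1 a2)
      · push Not at hstab
        obtain ⟨i, hi, hri, hsi⟩ := hstab
        have hws := C.w_lt i hi s hs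
        refine rel_step C hk hi hr hs (ih _ _ ?_ (C.w_lt i hi r hr).1 hws.1 (hneg hi).1 (hneg hi).2)
        rw [hri]
        omega
    · push Not at htop
      obtain ⟨i, hi, hlt⟩ := htop
      have hwr := C.w_lt i hi r hr
      refine rel_step C hk hi hr hs
        (ih _ _ ?_ hwr.1 (C.w_lt i hi s hs).1 (hneg hi).1 (hneg hi).2)
      have : (D.nroots - C.w i r) * (D.nroots + 1) + (D.nroots + 1) ≤
          (D.nroots - r) * (D.nroots + 1) := by
        rw [← Nat.succ_mul]
        exact Nat.mul_le_mul_right _ (by omega)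
      omega

/-! ### the isomorphism -/

omit hk

theorem st_add {r : ℕ} (hr : r < D.nroots) (t u : K) :
    D.stGen K r t * D.stGen K r u = D.stGen K r (t + u) := by
  have := PresentedGroup.one_of_mem (rels := D.steinbergRels K)
    (Or.inl (Or.inl ⟨r, t, u, hr, rfl⟩))
  rwa [map_mul, map_mul, map_inv, mul_inv_eq_one] at this

theorem st_comm {r s : ℕ} (hr : r < D.nroots) (hs : s < D.nroots) (h1 : s ≠ r)
    (h2 : s ≠ D.neg r) (t u : K) :
    (D.stGen K s u)⁻¹ * (D.stGen K r t)⁻¹ * D.stGen K s u * D.stGen K r t =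
      ((D.commWord K r s t u).map fun p => D.stGen K p.1 p.2).prod := by
  have := PresentedGroup.one_of_mem (rels := D.steinbergRels K)
    (Or.inl (Or.inr ⟨r, s, t, u, hr, hs, h1, h2, rfl⟩))
  rwa [map_mul, map_inv, map_stWord _ (D.stGen K) (fun _ _ => rfl), map_mul, map_mul, map_mul,
    map_inv, map_inv, mul_inv_eq_one] at this

theorem st_hMul {r : ℕ} (hr : r < D.nroots) : TorMul (D := D) K (D.stGen K) r := by
  intro t u ht hu
  have := PresentedGroup.one_of_mem (rels := D.steinbergRels K)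
    (Or.inr ⟨r, t, u, hr, ht, hu, rfl⟩)
  rwa [map_mul, map_mul, map_inv, stH, stH, stH, map_stWord _ (D.stGen K) (fun _ _ => rfl),
    map_stWord _ (D.stGen K) (fun _ _ => rfl), map_stWord _ (D.stGen K) (fun _ _ => rfl),
    mul_inv_eq_one] at this

theorem lift_stX {G : Type*} [Group G] (g : ℕ → K → G) {r : ℕ} (hr : r < D.nroots) (t : K) :
    FreeGroup.lift (fun p : Fin D.nroots × K => g p.1 p.2) (D.stX r t) = g r t := by
  simp [stX, hr]

theorem lift_word {G : Type*} [Group G] (g : ℕ → K → G) (w : List (ℕ × K))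
    (h : ∀ p ∈ w, p.1 < D.nroots) :
    FreeGroup.lift (fun p : Fin D.nroots × K => g p.1 p.2) (D.stWord w) =
      (w.map fun p => g p.1 p.2).prod := by
  rw [map_stWord _ (fun r t => FreeGroup.lift (fun p : Fin D.nroots × K => g p.1 p.2) (D.stX r t))
    fun _ _ => rfl]
  congr 1
  exact List.map_congr_left fun p hp => lift_stX g (h p hp) p.2

include C in
theorem lift_rels {G : Type*} [Group G] (g : ℕ → K → G)
    (hadd : ∀ r < D.nroots, ∀ t u, g r t * g r u = g r (t + u))
    (hcomm : ∀ r < D.nroots, ∀ s < D.nroots, s ≠ r → s ≠ D.neg r → ∀ t u,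
      (g s u)⁻¹ * (g r t)⁻¹ * g s u * g r t = ((D.commWord K r s t u).map fun p => g p.1 p.2).prod)
    (hh : ∀ r < D.nroots, TorMul (D := D) K g r) :
    ∀ x ∈ D.steinbergRels K, FreeGroup.lift (fun p : Fin D.nroots × K => g p.1 p.2) x = 1 := by
  rintro x ((⟨r, t, u, hr, rfl⟩ | ⟨r, s, t, u, hr, hs, h1, h2, rfl⟩) | ⟨r, t, u, hr, ht, hu, rfl⟩)
  · rw [map_mul, map_mul, map_inv, lift_stX g hr, lift_stX g hr, lift_stX g hr, hadd r hr,
      mul_inv_cancel]
  · rw [map_mul, map_inv, lift_word g _ ?_, map_mul, map_mul, map_mul, map_inv, map_inv,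
      lift_stX g hr, lift_stX g hs, hcomm r hr s hs h1 h2, mul_inv_cancel]
    intro p hp
    simp only [commWord, List.mem_map] at hp
    obtain ⟨c, hc, rfl⟩ := hp
    exact (C.commTerms_cf hc).1.1
  · have hW : ∀ t : K, ∀ p ∈ D.hWord r t, p.1 < D.nroots := by
      have hn := C.neg_lt hr
      intro t p hp
      simp only [hWord, nWord, List.mem_append, List.mem_cons, List.not_mem_nil, or_false] at hp
      rcases hp with (rfl | rfl | rfl) | rfl | rfl | rfl <;> assumption
    rw [map_mul, map_mul, map_inv, stH, stH, stH, lift_word g _ (hW t), lift_word g _ (hW u),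
      lift_word g _ (hW _), hh r hr t u ht hu, mul_inv_cancel]

variable (K) in
/-- Steinberg's group maps to the matrix group -/
def stToGL : D.SteinbergGroup K →* GL D.Idx K :=
  PresentedGroup.toGroup (lift_rels C (C.xU K) (fun r _ => C.xU_add K r)
    (fun _ hr _ hs => gl_comm K C hr hs) (fun _ hr => gl_hMul K C hr))

variable (K) in
/-- the system of all roots in Steinberg's group -/
def stSys : Sys C K (D.SteinbergGroup K) where
  Sub r := r < D.nroots
  f := D.stGen K
  rho := stToGL C K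
  sub_lt h := h
  sub_neg h := C.neg_lt h
  sub_comm _ _ c hc := (C.commTerms_cf hc).1.1
  rho_f h t := lift_stX (C.xU K) h t
  add h t u := st_add h t u
  comm hr hs h1 h2 t u := st_comm hr hs h1 h2 t u

open Classical in
theorem toSt_rels (hk : Chk C) :
    ∀ x ∈ D.curtisTitsRels K, FreeGroup.lift
      (fun p : Fin D.nroots × K => if Small C p.1 then D.stGen K p.1 p.2 else 1) x = 1 := by
  have hX : ∀ r t, Small C r → FreeGroup.lift
      (fun p : Fin D.nroots × K => if Small C p.1 then D.stGen K p.1 p.2 else 1) (D.stX r t) =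
        D.stGen K r t := by
    intro r t h
    obtain ⟨i, j, h'⟩ := h
    simp [stX, h'.1, show Small C r from ⟨i, j, h'⟩]
  have hW : ∀ w : List (ℕ × K), (∀ p ∈ w, Small C p.1) → FreeGroup.lift
      (fun p : Fin D.nroots × K => if Small C p.1 then D.stGen K p.1 p.2 else 1) (D.stWord w) =
        (w.map fun p => D.stGen K p.1 p.2).prod := by
    intro w hw
    rw [map_stWord _ (fun r t => FreeGroup.lift (fun p : Fin D.nroots × K =>
      if Small C p.1 then D.stGen K p.1 p.2 else 1) (D.stX r t)) fun _ _ => rfl]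
    congr 1
    exact List.map_congr_left fun p hp => hX p.1 p.2 (hw p hp)
  rintro g (((⟨r, t, hr, h, rfl⟩ | ⟨i, j, r, t, u, h, rfl⟩) | ⟨i, j, r, s, t, u, hr, hs, h1, h2, rfl⟩) |
    ⟨i, j, r, t, u, h, ht, hu, rfl⟩)
  · have : ¬ Small C r := fun ⟨i, j, hij⟩ => h i j ((two_iff C hk).2 hij)
    simp [stX, hr, this]
  · have h' := (two_iff C hk).1 h
    have hS : Small C r := ⟨i, j, h'⟩
    rw [map_mul, map_mul, map_inv, hX r t hS, hX r u hS, hX r _ hS, st_add h'.1, mul_inv_cancel]
  · have hr' := (two_iff C hk).1 hr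
    have hs' := (two_iff C hk).1 hs
    rw [map_mul, map_inv, hW _ ?_, map_mul, map_mul, map_mul, map_inv, map_inv,
      hX r t ⟨i, j, hr'⟩, hX s u ⟨i, j, hs'⟩, st_comm hr'.1 hs'.1 h1 h2, mul_inv_cancel]
    intro p hp
    simp only [commWord, List.mem_map] at hp
    obtain ⟨c, hc, rfl⟩ := hp
    exact ⟨i, j, two_comm C hr' hs' c hc⟩
  · have h' := (two_iff C hk).1 h
    have hS : Small C r := ⟨i, j, h'⟩
    rw [map_mul, map_mul, map_inv, stH, stH, stH, hW _ (hWord_small C hS t),
      hW _ (hWord_small C hS u), hW _ (hWord_small C hS _), st_hMul h'.1 t u ht hu, mul_inv_cancel]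

theorem toY_rels (hk : Chk C) :
    ∀ x ∈ D.steinbergRels K, FreeGroup.lift (fun p : Fin D.nroots × K => Y C p.1 p.2) x = 1 := by
  refine lift_rels C (fun r t => Y C r t) (fun r hr => Y_add C hk hr)
    (fun r hr s hs h1 h2 => rel_all C hk hr hs h1 h2) ?_
  intro r hr t u ht hu
  rw [hWord_prod, hWord_prod, hWord_prod]
  exact Yh_mul C hk hr t u ht hu

theorem curtis_tits (hk : Chk C) :
    ∃ e : D.CurtisTitsGroup K ≃* D.SteinbergGroup K,
      ∀ (i j r : ℕ) (t : K), D.InRankTwoSub i j r →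
        e (PresentedGroup.mk (D.curtisTitsRels K) (D.stX r t)) = D.stGen K r t := by
  classical
  let φ : D.CurtisTitsGroup K →* D.SteinbergGroup K := PresentedGroup.toGroup (toSt_rels C hk)
  let ψ : D.SteinbergGroup K →* D.CurtisTitsGroup K := PresentedGroup.toGroup (toY_rels C hk)
  have hφX : ∀ r t, Small C r → φ (X K r t) = D.stGen K r t := by
    intro r t h
    obtain ⟨i, j, h'⟩ := h
    show FreeGroup.lift _ (D.stX r t) = _
    simp [stX, h'.1, show Small C r from ⟨i, j, h'⟩]
  have hψ : ∀ r < D.nroots, ∀ t, ψ (D.stGen K r t) = Y C r t := fun r hr t =>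
    lift_stX (fun r t => Y C r t) hr t
  have hφn : ∀ i < D.rank, φ (cn K i) = (stSys C K).n i := by
    intro i hi
    rw [cn, map_mul, map_mul, hφX _ _ ⟨i, i, two_simple C hi hi⟩,
      hφX _ _ ⟨i, i, two_neg C (two_simple C hi hi)⟩]
    rfl
  have hφY : ∀ {r : ℕ}, r < D.nroots → ∀ t, φ (Y C r t) = D.stGen K r t := by
    intro r
    induction hn : (ht C r).natAbs using Nat.strong_induction_on generalizing r with
    | _ n ih =>
      subst hn
      intro hr t
      by_cases h : Small C r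
      · rw [Y_small C h, hφX r t h]
      · obtain ⟨j, hj, e⟩ := Y_large C (K := K) hr h
        have hw := C.w_lt j hj.2.1 r hr
        rw [e, map_mul, map_mul, map_inv, hφn j hj.2.1, ih _ (dn_lt C hj) rfl hw.1]
        have hp := (C.simple_lt j hj.2.1).1
        have := (stSys C K).simple_conj hj.2.1 hp hw.1 (C.w_lt j hj.2.1 _ hw.1).1
          (fun e => hj.2.2.2.1 (by rw [← hw.2, e, w_simple C hj.2.1]))
          (fun e => hj.2.2.1 (by rw [← hw.2, e, C.w_neg hj.2.1 hp, w_simple C hj.2.1, C.neg_neg hp]))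
          ((C.sg j (C.w j r) : K) * t)
        rw [hw.2, ← mul_assoc (C.sg j (C.w j r) : K) (C.sg j (C.w j r) : K), ← Int.cast_mul,
          C.sg_sq, Int.cast_one, one_mul] at this
        exact this
  have h1 : ψ.comp φ = MonoidHom.id _ := by
    refine PresentedGroup.ext fun p => ?_
    obtain ⟨⟨r, hr⟩, t⟩ := p
    have e : (PresentedGroup.of (⟨r, hr⟩, t) : D.CurtisTitsGroup K) = X K r t := by
      simp [X, stX, hr]; rfl
    rw [e]
    show ψ (φ (X K r t)) = X K r t
    by_cases h : Small C r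
    · rw [hφX r t h, hψ r hr, Y_small C h]
    · rw [X_large C hk h, map_one, map_one]
  have h2 : φ.comp ψ = MonoidHom.id _ := by
    refine PresentedGroup.ext fun p => ?_
    obtain ⟨⟨r, hr⟩, t⟩ := p
    have e : (PresentedGroup.of (⟨r, hr⟩, t) : D.SteinbergGroup K) = D.stGen K r t := by
      simp [stGen, stX, hr]; rfl
    rw [e]
    show φ (ψ (D.stGen K r t)) = _
    rw [hψ r hr, hφY hr]
    rfl
  refine ⟨φ.toMulEquiv ψ h1 h2, fun i j r t h => ?_⟩
  exact hφX r t ⟨i, j, (two_iff C hk).1 h⟩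

end Cfsg.Agent.H38.CT
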